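import Groth.Agent.Sga3C.CWMain
import Groth.Agent.Sga3C.CWSection
import Mathlib.RingTheory.IsTensorProduct
import Mathlib.AlgebraicGeometry.Morphisms.Flat

/-!
# Closed Weil restriction along morphisms with locally projective coordinate rings

`LocProj f`: every point of the base has an affine open neighbourhood `V` such that `f⁻¹ V` is covered by
affine opens `U` with `Γ(X, U)` projective over `Γ(S, V)`.

* `exists_closed_weilRestriction_of_locProj`: for `j : Y ⟶ X` a closed immersion, the condition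
  `X_T ⊆ Y` on `T ⟶ S` is represented by a closed subscheme of `S`, of finite presentation if `f` is
  quasi-compact and `j` is of finite presentation.
* `LocProj.of_isPullback`: stability under base change.
-/

set_option autoImplicit false
universe u

namespace Groth.Agent.Sga3.H817.WeilProj

open CategoryTheory AlgebraicGeometry TopologicalSpace Opposite Limits TensorProduct
  Groth.Agent.Sga3C.CWGlue Groth.Agent.Sga3C.CWSch Groth.Agent.Sga3C.CWMain

section Algebra

variable {A B : Type u} [CommRing A] [CommRing B] [Algebra A B]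

/-- The vanishing locus of an element of a projective algebra. -/
theorem exists_content [Module.Projective A B] (b : B) :
    ∃ K : Ideal A, K.FG ∧ ∀ (C : Type u) [CommRing C] [Algebra A C],
      K.map (algebraMap A C) = ⊥ ↔ (1 : C) ⊗ₜ[A] b = 0 := by
  obtain ⟨s, hs⟩ := (Module.projective_def (R := A) (P := B)).1 inferInstance
  refine ⟨Ideal.span (Set.range (s b)), Submodule.fg_span (Finsupp.finite_range _), ?_⟩
  intro C _ _
  rw [Ideal.map_span, Ideal.span_eq_bot]
  constructor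
  · intro h
    have h1 : b = (s b).sum fun x a => a • x := by
      conv_lhs => rw [← hs b]
      rw [Finsupp.linearCombination_apply]
      rfl
    rw [h1, Finsupp.sum, TensorProduct.tmul_sum]
    refine Finset.sum_eq_zero fun x _ => ?_
    rw [← TensorProduct.smul_tmul, Algebra.smul_def, h _ ⟨s b x, ⟨x, rfl⟩, rfl⟩, zero_mul,
      TensorProduct.zero_tmul]
  · rintro h _ ⟨_, ⟨x, rfl⟩, rfl⟩
    let l : B →ₗ[A] A := (Finsupp.lapply x).comp s
    have h1 := congrArg (fun z => TensorProduct.rid A C (l.lTensor C z)) h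
    simp only [LinearMap.lTensor_tmul, TensorProduct.rid_tmul, map_zero] at h1
    rw [Algebra.smul_def, mul_one] at h1
    exact h1

end Algebra

variable {S X Y : Scheme.{u}}

/-- Every point of the base has an affine open neighbourhood `V` such that `f⁻¹ V` is covered by
affine opens `U` with `Γ(X, U)` projective over `Γ(S, V)`. -/
def LocProj (f : X ⟶ S) : Prop :=
  ∀ s : S, ∃ (V : S.Opens) (_ : IsAffineOpen V), s ∈ V ∧ ∀ x ∈ f ⁻¹ᵁ V,
    ∃ (U : X.Opens) (_ : IsAffineOpen U) (e : U ≤ f ⁻¹ᵁ V), x ∈ U ∧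
      (letI := (f.appLE V U e).hom.toAlgebra
       Module.Projective Γ(S, V) Γ(X, U))

variable (f : X ⟶ S) (j : Y ⟶ X)

/-- The condition over an affine chart: version for a covering family of affine opens upstairs. -/
theorem cond_iff_family [IsClosedImmersion j] {V : S.Opens} (hV : IsAffineOpen V) {ι : Type u}
    (U : ι → X.Opens) (hU : ∀ i, IsAffineOpen (U i)) (e : ∀ i, U i ≤ f ⁻¹ᵁ V)
    (hcov : ∀ x ∈ f ⁻¹ᵁ V, ∃ i, x ∈ U i) {C : CommRingCat.{u}} (ψ : Γ(S, V) ⟶ C)
    (D : ι → CommRingCat.{u}) (inl : ∀ i, C ⟶ D i) (inr : ∀ i, Γ(X, U i) ⟶ D i)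
    (hpo : ∀ i, IsPushout ψ (f.appLE V (U i) (e i)) (inl i) (inr i)) :
    Cond f j (Spec.map ψ ≫ hV.fromSpec) ↔
      ∀ i, ∀ b ∈ j.ker.ideal ⟨U i, hU i⟩, (inr i).hom b = 0 := by
  constructor
  · rintro ⟨a, ha⟩ i
    rw [← factors_iff j (hU i) (inr i)]
    refine ⟨toPullback f hV (hU i) (e i) ψ (inl i) (inr i) (hpo i) ≫ a, ?_⟩
    rw [Category.assoc, ha, toPullback_fst]
  · intro h
    have h' : ∀ i, ∃ a : Spec (D i) ⟶ Y, a ≫ j = Spec.map (inr i) ≫ (hU i).fromSpec := fun i =>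
      (factors_iff j (hU i) (inr i)).2 (h i)
    choose a ha using h'
    let g := Spec.map ψ ≫ hV.fromSpec
    let 𝒱 : (pullback f g).OpenCover := Scheme.Cover.mkOfCovers ι (fun i => Spec (D i))
      (fun i => toPullback f hV (hU i) (e i) ψ (inl i) (inr i) (hpo i)) (by
        intro z
        have h1 : (pullback.fst f g) z ∈ f ⁻¹ᵁ V := by
          change f ((pullback.fst f g) z) ∈ V
          rw [← Scheme.Hom.comp_apply, pullback.condition, Scheme.Hom.comp_apply, ← SetLike.mem_coe,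
            ← hV.range_fromSpec]
          exact ⟨(Spec.map ψ) ((pullback.snd f g) z), by rw [← Scheme.Hom.comp_apply]⟩
        obtain ⟨i, hi⟩ := hcov _ h1
        rw [← SetLike.mem_coe, ← (hU i).range_fromSpec] at hi
        obtain ⟨y, hy⟩ := hi
        obtain ⟨w, hw, -⟩ := Scheme.exists_preimage_of_isPullback
          (isPullback_toPullback f hV (hU i) (e i) ψ (inl i) (inr i) (hpo i)) z y hy.symm
        exact ⟨i, w, hw⟩) (fun i => inferInstance)
    refine factor_of_cover j 𝒱 (pullback.fst f g) a ?_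
    intro i
    exact (ha i).trans (toPullback_fst f hV (hU i) (e i) ψ (inl i) (inr i) (hpo i)).symm

/-- Local representability. -/
theorem exists_repAt_family [IsClosedImmersion j] {V : S.Opens} (hV : IsAffineOpen V) {ι : Type u}
    (U : ι → X.Opens) (hU : ∀ i, IsAffineOpen (U i)) (e : ∀ i, U i ≤ f ⁻¹ᵁ V)
    (hcov : ∀ x ∈ f ⁻¹ᵁ V, ∃ i, x ∈ U i)
    (hproj : ∀ i, letI := (f.appLE V (U i) (e i)).hom.toAlgebra
      Module.Projective Γ(S, V) Γ(X, U i)) :
    ∃ K : Ideal Γ(S, V), RepAt (Cond f j) V hV K ∧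
      (Finite ι → LocallyOfFinitePresentation j → K.FG) := by
  classical
  have hloc : ∀ i, ∃ K : Ideal Γ(S, V), (∀ (C : CommRingCat.{u}) (ψ : Γ(S, V) ⟶ C)
      (D : CommRingCat.{u}) (inl : C ⟶ D) (inr : Γ(X, U i) ⟶ D)
      (_ : IsPushout ψ (f.appLE V (U i) (e i)) inl inr),
      K.map ψ.hom = ⊥ ↔ ∀ b ∈ j.ker.ideal ⟨U i, hU i⟩, inr.hom b = 0) ∧
      (LocallyOfFinitePresentation j → K.FG) := by
    intro i
    let _ : Algebra Γ(S, V) Γ(X, U i) := (f.appLE V (U i) (e i)).hom.toAlgebra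
    have hp : Module.Projective Γ(S, V) Γ(X, U i) := hproj i
    choose K hKfg hK using (exists_content (A := Γ(S, V)) (B := Γ(X, U i)))
    let J : Ideal Γ(X, U i) := j.ker.ideal ⟨U i, hU i⟩
    let KS : Set Γ(X, U i) → Ideal Γ(S, V) := fun t => ⨆ b : t, K b.1
    have hKS : ∀ (t : Set Γ(X, U i)) (C : Type u) [CommRing C] [Algebra Γ(S, V) C],
        (KS t).map (algebraMap Γ(S, V) C) = ⊥ ↔ ∀ b ∈ t, (1 : C) ⊗ₜ[Γ(S, V)] b = 0 := by
      intro t C _ _
      rw [Ideal.map_iSup, iSup_eq_bot]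
      constructor
      · intro h b hb
        exact (hK b C).1 (h ⟨b, hb⟩)
      · intro h b
        exact (hK b.1 C).2 (h b.1 b.2)
    refine ⟨KS J, ?_, ?_⟩
    · intro C ψ D inl inr hpo
      let _ : Algebra Γ(S, V) C := ψ.hom.toAlgebra
      have hpo' := CommRingCat.isPushout_tensorProduct Γ(S, V) C Γ(X, U i)
      have h1 : (KS J).map ψ.hom = ⊥ ↔ ∀ b ∈ J, (1 : C) ⊗ₜ[Γ(S, V)] b = 0 := hKS J C
      rw [h1]
      refine forall_congr' fun b => forall_congr' fun _ => ?_
      let E := hpo.isoIsPushout _ _ hpo'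
      have hE : inr ≫ E.hom = CommRingCat.ofHom (S := C ⊗[Γ(S, V)] Γ(X, U i))
          (Algebra.TensorProduct.includeRight (R := Γ(S, V)) (A := C) (B := Γ(X, U i))).toRingHom :=
        hpo.inr_isoIsPushout_hom _ _ hpo'
      have hE' : E.hom.hom (inr.hom b) = (1 : C) ⊗ₜ[Γ(S, V)] b := by
        rw [← CommRingCat.comp_apply, hE]
        rfl
      rw [← hE']
      constructor
      · intro h
        have h2 := congrArg E.inv.hom h
        rw [← CommRingCat.comp_apply, E.hom_inv_id, map_zero] at h2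
        exact h2
      · intro h
        rw [h, map_zero]
    · intro hj
      have hJ : J.FG := fg_ker_ideal j ⟨U i, hU i⟩
      obtain ⟨t, ht⟩ := hJ
      have h2 : KS J = KS (t : Set Γ(X, U i)) := by
        apply Groth.Agent.Sga3C.CWSection.eq_of_forall_map_eq_bot_iff
        intro C _ _
        rw [hKS, hKS]
        constructor
        · intro h b hb
          apply h b
          rw [← ht]
          exact Ideal.subset_span hb
        · intro h b hb
          let θ : Γ(X, U i) →ₐ[Γ(S, V)] C ⊗[Γ(S, V)] Γ(X, U i) := Algebra.TensorProduct.includeRight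
          have h3 : J ≤ RingHom.ker θ := by
            rw [← ht, Submodule.span_le]
            intro b hb
            exact h b hb
          exact h3 hb
      rw [h2]
      have h4 : KS (t : Set Γ(X, U i)) = ⨆ b ∈ t, K b := by
        rw [iSup_subtype']
        rfl
      rw [h4]
      exact Submodule.fg_biSup t K (fun b _ => hKfg b)
  choose K hK hKfg using hloc
  refine ⟨⨆ i, K i, ?_, ?_⟩
  · intro C ψ
    let _ : Algebra Γ(S, V) C := ψ.hom.toAlgebra
    have hpo : ∀ i, IsPushout ψ (f.appLE V (U i) (e i)) (pushout.inl ψ (f.appLE V (U i) (e i)))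
        (pushout.inr ψ (f.appLE V (U i) (e i))) := fun i => IsPushout.of_hasPushout _ _
    rw [cond_iff_family f j hV U hU e hcov ψ _ _ _ hpo, Ideal.map_iSup, iSup_eq_bot]
    exact forall_congr' fun i => (hK i C ψ _ _ _ (hpo i)).symm
  · intro hfin hj
    exact Submodule.fg_iSup K fun i => hKfg i hj

/-- Local representability. -/
theorem exists_repAt [IsClosedImmersion j] (hf : LocProj f) (s : S) :
    ∃ (V : S.Opens) (hV : IsAffineOpen V) (K : Ideal Γ(S, V)), s ∈ V ∧
      RepAt (Cond f j) V hV K ∧ (QuasiCompact f → LocallyOfFinitePresentation j → K.FG) := by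
  classical
  obtain ⟨V, hV, hs, H⟩ := hf s
  by_cases hqc : QuasiCompact f
  · have hc : IsCompact ((f ⁻¹ᵁ V : X.Opens) : Set X) := f.isCompact_preimage hV.isCompact
    choose! U hU e hxU hproj using H
    obtain ⟨t, ht⟩ := hc.elim_finite_subcover (fun x : ((f ⁻¹ᵁ V : X.Opens) : Set X) => (U x.1 : Set X))
      (fun x => (U x.1).isOpen) (fun x hx => Set.mem_iUnion.2 ⟨⟨x, hx⟩, hxU x hx⟩)
    obtain ⟨K, hK, hfg⟩ := exists_repAt_family f j hV (ι := t) (fun x => U x.1.1)
      (fun x => hU _ x.1.2) (fun x => e _ x.1.2) (fun x hx => by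
        have := ht hx
        simp only [Set.mem_iUnion] at this
        obtain ⟨y, hy, hxy⟩ := this
        exact ⟨⟨y, hy⟩, hxy⟩) (fun x => hproj _ x.1.2)
    exact ⟨V, hV, K, hs, hK, fun _ => hfg inferInstance⟩
  · choose! U hU e hxU hproj using H
    obtain ⟨K, hK, -⟩ := exists_repAt_family f j hV (ι := ((f ⁻¹ᵁ V : X.Opens) : Set X))
      (fun x => U x.1) (fun x => hU _ x.2) (fun x => e _ x.2) (fun x hx => ⟨⟨x, hx⟩, hxU x hx⟩)
      (fun x => hproj _ x.2)
    exact ⟨V, hV, K, hs, hK, fun h => absurd h hqc⟩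

/-- **Closed Weil restriction** along a morphism with locally projective coordinate rings. -/
theorem exists_closed_weilRestriction_of_locProj [IsClosedImmersion j] (hf : LocProj f) :
    ∃ (T : Scheme.{u}) (t : T ⟶ S), IsClosedImmersion t ∧
      (∀ (S' : Scheme.{u}) (g : S' ⟶ S),
        (∃ g' : S' ⟶ T, g' ≫ t = g) ↔ Cond f j g) ∧
      (QuasiCompact f → LocallyOfFinitePresentation j → LocallyOfFinitePresentation t) := by
  have hpre : ∀ {T' T : Scheme.{u}} (h : T' ⟶ T) (g : T ⟶ S), Cond f j g → Cond f j (h ≫ g) :=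
    fun h g => cond_pre f j h g
  have hrep : ∀ s : S, ∃ (V : S.Opens) (hV : IsAffineOpen V) (K : Ideal Γ(S, V)),
      s ∈ V ∧ RepAt (Cond f j) V hV K := by
    intro s
    obtain ⟨V, hV, K, hs, h, -⟩ := exists_repAt f j hf s
    exact ⟨V, hV, K, hs, h⟩
  refine ⟨(glued (Cond f j) hpre hrep).subscheme, (glued (Cond f j) hpre hrep).subschemeι,
    inferInstance, ?_, ?_⟩
  · intro S' g
    exact exists_lift_iff (Cond f j) hpre hrep (fun g 𝒰 h => cond_loc f j g 𝒰 h) g
  · intro hqc hj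
    apply locallyOfFinitePresentation_subschemeι
    intro s
    obtain ⟨V, hV, K, hs, h, hfg⟩ := exists_repAt f j hf s
    refine ⟨⟨V, hV⟩, hs, ?_⟩
    rw [glued_ideal (Cond f j) hpre hrep V hV K h]
    exact hfg hqc hj

/-- `LocProj` is stable under base change. -/
theorem LocProj.of_isPullback {X' S' : Scheme.{u}} {f' : X' ⟶ S'} {g' : X' ⟶ X} {g : S' ⟶ S}
    {f : X ⟶ S} (hf : LocProj f) (H : IsPullback g' f' f g) : LocProj f' := by
  intro s'
  obtain ⟨V, hV, hs, hcov⟩ := hf (g s')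
  obtain ⟨_, ⟨V', hV', rfl⟩, hsV', hV'V⟩ :=
    S'.isBasis_affineOpens.exists_subset_of_mem_open (a := s')
      (u := ((g ⁻¹ᵁ V : S'.Opens) : Set S')) hs (g ⁻¹ᵁ V).isOpen
  have hle : V' ≤ g ⁻¹ᵁ V := hV'V
  refine ⟨V', hV', hsV', ?_⟩
  intro x' hx'
  have hx : g' x' ∈ f ⁻¹ᵁ V := by
    change f (g' x') ∈ V
    rw [← Scheme.Hom.comp_apply, H.w, Scheme.Hom.comp_apply]
    exact hle hx'
  obtain ⟨U, hU, e, hxU, hproj⟩ := hcov _ hx
  have hU' : IsAffineOpen (g' ⁻¹ᵁ U ⊓ f' ⁻¹ᵁ V') := by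
    have : IsAffine _ := hV
    have : IsAffine _ := hV'
    have : IsAffine _ := hU
    exact .of_isIso (Scheme.Hom.isPullback_resLE H hle e rfl).isoPullback.hom
  refine ⟨g' ⁻¹ᵁ U ⊓ f' ⁻¹ᵁ V', hU', inf_le_right, ⟨hxU, hx'⟩, ?_⟩
  have hpo := (isIso_pushoutSection_iff H hle e rfl).1
    (isIso_pushoutSection_of_isAffineOpen H hle e rfl hV hV' hU)
  let i1 : Algebra Γ(S, V) Γ(X, U) := (f.appLE V U e).hom.toAlgebra
  let i2 : Algebra Γ(S, V) Γ(S', V') := (g.appLE V V' hle).hom.toAlgebra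
  let i3 : Algebra Γ(S', V') Γ(X', g' ⁻¹ᵁ U ⊓ f' ⁻¹ᵁ V') := (f'.appLE V' _ inf_le_right).hom.toAlgebra
  let i4 : Algebra Γ(X, U) Γ(X', g' ⁻¹ᵁ U ⊓ f' ⁻¹ᵁ V') := (g'.appLE U _ inf_le_left).hom.toAlgebra
  let i5 : Algebra Γ(S, V) Γ(X', g' ⁻¹ᵁ U ⊓ f' ⁻¹ᵁ V') :=
    ((g'.appLE U _ inf_le_left).hom.comp (f.appLE V U e).hom).toAlgebra
  have i6 : IsScalarTower Γ(S, V) Γ(X, U) Γ(X', g' ⁻¹ᵁ U ⊓ f' ⁻¹ᵁ V') :=
    IsScalarTower.of_algebraMap_eq (fun _ => rfl)
  have i7 : IsScalarTower Γ(S, V) Γ(S', V') Γ(X', g' ⁻¹ᵁ U ⊓ f' ⁻¹ᵁ V') :=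
    IsScalarTower.of_algebraMap_eq (fun a => congr($(hpo.w) a))
  have hpo2 : Algebra.IsPushout Γ(S, V) Γ(S', V') Γ(X, U) Γ(X', g' ⁻¹ᵁ U ⊓ f' ⁻¹ᵁ V') :=
    ((CommRingCat.isPushout_iff_isPushout (R := Γ(S, V)) (S := Γ(S', V')) (R' := Γ(X, U))
      (S' := Γ(X', g' ⁻¹ᵁ U ⊓ f' ⁻¹ᵁ V'))).1 hpo).symm
  have hp : Module.Projective Γ(S, V) Γ(X, U) := hproj
  exact Module.Projective.of_equiv hpo2.out.equiv

end Groth.Agent.Sga3.H817.WeilProj
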