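import Groth.Agent.Ega43.LocusStage
import Groth.Agent.Ega43.LocusSep
import Groth.Agent.Ega43.LimitDescendClosed
import Groth.Agent.FlatA.GenericFree2
import Groth.Agent.Sga3.H817.WeilProj
import Mathlib.AlgebraicGeometry.FunctionField

/-!
# Spreading out from the generic point of an integral scheme

* `exists_open_of_generic`: a property of the generic fibre which descends along limits holds over a
  non-empty open.
* `exists_open_locProj`: generic freeness, in the form `LocProj`.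
-/

set_option autoImplicit false
universe u
open CategoryTheory AlgebraicGeometry CategoryTheory.Limits Topology TensorProduct Opposite

namespace Groth.Agent.Sga3.H817.GenericSpread

open Groth.Agent.Ega43.Locus Groth.Agent.Ega43.LocusAff Groth.Agent.Ega43.ResSys
  Groth.Agent.Ega43.ResSysSch Groth.Agent.Ega43.LocusStage Groth.Agent.Sga3.H817.WeilProj

section bc

variable {X Y S T T' : Scheme.{u}}

/-- `P` is inherited by further base changes. -/
theorem bcMap_comp {P : MorphismProperty Scheme.{u}} [P.IsStableUnderBaseChange] {f : X ⟶ Y} {g : Y ⟶ S}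
    {t : T ⟶ S} (h : P (bcMap f g t)) (s : T' ⟶ T) : P (bcMap f g (s ≫ t)) := by
  obtain ⟨w, v, -, -, -, h2⟩ := exists_comparison (c := s) (k := t)
    (IsPullback.of_hasPullback g (s ≫ t)) (isPullback_bcMap f g (s ≫ t))
  exact P.of_isPullback h2 h

/-- restriction to a smaller open -/
theorem bcMap_of_le {P : MorphismProperty Scheme.{u}} [P.IsStableUnderBaseChange] {f : X ⟶ Y} {g : Y ⟶ S}
    {U V : S.Opens} (hUV : U ≤ V) (h : P (bcMap f g V.ι)) : P (bcMap f g U.ι) := by
  rw [← S.homOfLE_ι hUV]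
  exact bcMap_comp h _

end bc

theorem isOpenImmersion_toBase {R : Type u} [CommRing R] [IsDomain R] (p : Ideal R) [p.IsPrime]
    (hp : p = ⊥) (j : Idx p) : IsOpenImmersion (toBase p (op j)) := by
  have hnum : num j = ⊥ := by
    rw [← le_bot_iff, ← hp]
    exact num_le j
  have hb : Function.Bijective (algebraMap R (R ⧸ num j)) := by
    refine ⟨?_, Ideal.Quotient.mk_surjective⟩
    rw [injective_iff_map_eq_zero]
    intro a ha
    have : a ∈ num j := Ideal.Quotient.eq_zero_iff_mem.mp ha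
    rwa [hnum] at this
  have h1 : IsIso (CommRingCat.ofHom (algebraMap R (R ⧸ num j))) :=
    (RingEquiv.ofBijective _ hb).toCommRingCatIso.isIso_hom
  have h2 : IsOpenImmersion (Spec.map (CommRingCat.ofHom (algebraMap (R ⧸ num j) (Stage j)))) :=
    inferInstance
  have h3 : toBase p (op j) = Spec.map (CommRingCat.ofHom (algebraMap (R ⧸ num j) (Stage j))) ≫
      Spec.map (CommRingCat.ofHom (algebraMap R (R ⧸ num j))) := by
    rw [← Spec.map_comp]
    rfl
  rw [h3]
  have h4 : IsIso (Spec.map (CommRingCat.ofHom (algebraMap R (R ⧸ num j)))) := inferInstance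
  exact @IsOpenImmersion.comp _ _ _ _ _ h2 (@IsOpenImmersion.of_isIso _ _ _ h4)

theorem genericPoint_mem {S : Scheme.{u}} [IsIntegral S] (U : S.Opens) [h : Nonempty U] :
    genericPoint S ∈ U :=
  ((genericPoint_spec S).mem_open_set_iff U.isOpen).mpr (by simpa using h)

/-- Spreading out from the generic point. -/
theorem exists_open_of_generic {S : Scheme.{u}} [IsIntegral S] {P : MorphismProperty Scheme.{u}}
    [P.IsStableUnderBaseChange] (hP : FpqcInv P) (hD : DescRow P) {X Y : Scheme.{u}} (f : X ⟶ Y)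
    (g : Y ⟶ S) (hg : FP g) (hfg : FP (f ≫ g)) (h : genericPoint S ∈ locus P f g) :
    ∃ U : S.Opens, genericPoint S ∈ U ∧ P (bcMap f g U.ι) := by
  obtain ⟨V, hV, hxV, -⟩ := exists_isAffineOpen_mem_and_subset (x := genericPoint S) (U := ⊤) trivial
  have hne : Nonempty V := ⟨⟨_, hxV⟩⟩
  have hdom : IsDomain Γ(S, V) := inferInstance
  let b : Spec Γ(S, V) ⟶ S := hV.fromSpec
  have hirr : IrreducibleSpace (Spec Γ(S, V)) := inferInstance
  have hb : b (genericPoint (Spec Γ(S, V))) = genericPoint S := genericPoint_eq_of_isOpenImmersion b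
  let f' := bcMap f g b
  let g' := pullback.snd g b
  have hg' : FP g' := hg.snd b
  have hfg' : FP (f' ≫ g') := fp_bcMap_snd f g hfg b
  let p : PrimeSpectrum Γ(S, V) := genericPoint (Spec Γ(S, V))
  have hp0 : p.asIdeal = ⊥ := by
    have := genericPoint_eq_bot_of_affine Γ(S, V)
    exact congrArg PrimeSpectrum.asIdeal this
  have hp : p ∈ locus P f' g' := by
    have h1 : locus P f' g' = b ⁻¹' (locus P f g) := locus_bcMap hP f g b
    rw [h1]
    change b (genericPoint (Spec Γ(S, V))) ∈ locus P f g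
    rw [hb]
    exact h
  obtain ⟨j, hj⟩ := exists_stage (R := Γ(S, V)) f' g' hD hg' hfg' p hp
  have ho : IsOpenImmersion (toBase p.asIdeal (op j)) := isOpenImmersion_toBase _ hp0 j
  let t₀ := toBase p.asIdeal (op j) ≫ b
  have ho' : IsOpenImmersion t₀ := inferInstance
  have h1 : P (bcMap f g t₀) := by
    have e1 := (IsPullback.of_hasPullback g' (toBase p.asIdeal (op j))).paste_horiz
      (IsPullback.of_hasPullback g b)
    have e2 := (isPullback_bcMap f' g' (toBase p.asIdeal (op j))).paste_horiz (isPullback_bcMap f g b)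
    exact (iff_bcMap_of_isPullback e1 e2).1 hj
  refine ⟨t₀.opensRange, ?_, ?_⟩
  · have h2 : Set.range (toBase p.asIdeal (op j)) = loc j := range_toBase p.asIdeal j
    have h3 : p ∈ loc j := mem_loc p.asIdeal j
    rw [← h2] at h3
    obtain ⟨y, hy⟩ := h3
    refine ⟨y, ?_⟩
    change (toBase p.asIdeal (op j) ≫ b) y = _
    rw [Scheme.Hom.comp_apply, hy]
    exact hb
  · rw [← t₀.isoOpensRange_inv_comp]
    exact bcMap_comp h1 _

/-- Generic freeness. -/
theorem exists_open_locProj {S : Scheme.{u}} [IsIntegral S] {X : Scheme.{u}} (f : X ⟶ S)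
    [LocallyOfFiniteType f] [QuasiCompact f] :
    ∃ U : S.Opens, genericPoint S ∈ U ∧ LocProj (pullback.snd f U.ι) := by
  classical
  obtain ⟨V, hV, hxV, -⟩ := exists_isAffineOpen_mem_and_subset (x := genericPoint S) (U := ⊤) trivial
  have hne : Nonempty V := ⟨⟨_, hxV⟩⟩
  have hdom : IsDomain Γ(S, V) := inferInstance
  -- charts upstairs
  have hch : ∀ x : ((f ⁻¹ᵁ V : X.Opens) : Set X), ∃ (W : X.Opens) (hW : IsAffineOpen W) (e : W ≤ f ⁻¹ᵁ V),
      x.1 ∈ W ∧ ∃ a : Γ(S, V), a ≠ 0 ∧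
        (letI := (f.appLE V W e).hom.toAlgebra
         Groth.Agent.FlatA.GenericFree.FreeAway Γ(S, V) Γ(X, W) a) := by
    rintro ⟨x, hx⟩
    obtain ⟨W, hW, hxW, hWV⟩ := exists_isAffineOpen_mem_and_subset (x := x) (U := f ⁻¹ᵁ V) hx
    refine ⟨W, hW, hWV, hxW, ?_⟩
    let _ : Algebra Γ(S, V) Γ(X, W) := (f.appLE V W hWV).hom.toAlgebra
    have hft : Algebra.FiniteType Γ(S, V) Γ(X, W) := f.finiteType_appLE hV hW hWV
    exact Groth.Agent.FlatA.GenericFree.genFree_of_finiteType (R := Γ(S, V)) Γ(X, W) Γ(X, W)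
  choose W hW e hxW a ha hfree using hch
  have hc : IsCompact ((f ⁻¹ᵁ V : X.Opens) : Set X) := f.isCompact_preimage hV.isCompact
  obtain ⟨t, ht⟩ := hc.elim_finite_subcover (fun x : ((f ⁻¹ᵁ V : X.Opens) : Set X) => (W x : Set X))
      (fun x => (W x).isOpen) (fun x hx => Set.mem_iUnion.2 ⟨⟨x, hx⟩, hxW ⟨x, hx⟩⟩)
  let c : Γ(S, V) := ∏ x ∈ t, a x
  have hc0 : c ≠ 0 := Finset.prod_ne_zero_iff.2 fun x _ => ha x
  let U : S.Opens := S.basicOpen c
  have hU : IsAffineOpen U := hV.basicOpen c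
  have hUV : U ≤ V := S.basicOpen_le c
  have hgU : genericPoint S ∈ U := by
    have hne : Nonempty U := by
      by_contra hcon
      have h1 : U = ⊥ := by
        ext x
        exact ⟨fun hx => (hcon ⟨⟨x, hx⟩⟩).elim, fun hx => hx.elim⟩
      exact hc0 ((basicOpen_eq_bot_iff c).1 h1)
    exact genericPoint_mem U
  refine ⟨U, hgU, ?_⟩
  intro s
  have hUaff : IsAffine (U : Scheme.{u}) := hU
  have hTop : IsAffineOpen (⊤ : (U : Scheme.{u}).Opens) := isAffineOpen_top _
  refine ⟨⊤, hTop, trivial, ?_⟩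
  intro x' _
  have hle : (⊤ : (U : Scheme.{u}).Opens) ≤ U.ι ⁻¹ᵁ V := by
    intro y _
    exact hUV y.2
  have H : IsPullback (pullback.fst f U.ι) (pullback.snd f U.ι) f U.ι := IsPullback.of_hasPullback _ _
  have hx : (pullback.fst f U.ι) x' ∈ f ⁻¹ᵁ V := by
    change f ((pullback.fst f U.ι) x') ∈ V
    rw [← Scheme.Hom.comp_apply, H.w, Scheme.Hom.comp_apply]
    exact hle trivial
  obtain ⟨y, hyt, hxy⟩ : ∃ y ∈ t, (pullback.fst f U.ι) x' ∈ W y := by
    have := ht hx
    simp only [Set.mem_iUnion] at this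
    obtain ⟨y, hy, hxy⟩ := this
    exact ⟨y, hy, hxy⟩
  set O : (pullback f U.ι).Opens := (pullback.fst f U.ι) ⁻¹ᵁ (W y) ⊓ (pullback.snd f U.ι) ⁻¹ᵁ ⊤ with hO
  have hOaff : IsAffineOpen O := by
    have : IsAffine _ := hV
    have : IsAffine _ := hTop
    have : IsAffine _ := hW y
    exact .of_isIso (Scheme.Hom.isPullback_resLE H hle (e y) rfl).isoPullback.hom
  refine ⟨O, hOaff, inf_le_right, ⟨hxy, trivial⟩, ?_⟩
  have hpo := (isIso_pushoutSection_iff H hle (e y) rfl).1
    (isIso_pushoutSection_of_isAffineOpen H hle (e y) rfl hV hTop (hW y))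
  let i1 : Algebra Γ(S, V) Γ(X, W y) := (f.appLE V (W y) (e y)).hom.toAlgebra
  let i2 : Algebra Γ(S, V) Γ((U : Scheme.{u}), ⊤) := (U.ι.appLE V ⊤ hle).hom.toAlgebra
  let i3 : Algebra Γ((U : Scheme.{u}), ⊤) Γ(pullback f U.ι, O) :=
    ((pullback.snd f U.ι).appLE ⊤ O inf_le_right).hom.toAlgebra
  let i4 : Algebra Γ(X, W y) Γ(pullback f U.ι, O) :=
    ((pullback.fst f U.ι).appLE (W y) O inf_le_left).hom.toAlgebra
  let i5 : Algebra Γ(S, V) Γ(pullback f U.ι, O) :=
    (((pullback.fst f U.ι).appLE (W y) O inf_le_left).hom.comp (f.appLE V (W y) (e y)).hom).toAlgebra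
  have i6 : IsScalarTower Γ(S, V) Γ(X, W y) Γ(pullback f U.ι, O) :=
    IsScalarTower.of_algebraMap_eq (fun _ => rfl)
  have i7 : IsScalarTower Γ(S, V) Γ((U : Scheme.{u}), ⊤) Γ(pullback f U.ι, O) :=
    IsScalarTower.of_algebraMap_eq (fun a => congr($(hpo.w) a))
  have hpo2 : Algebra.IsPushout Γ(S, V) Γ((U : Scheme.{u}), ⊤) Γ(X, W y) Γ(pullback f U.ι, O) :=
    ((CommRingCat.isPushout_iff_isPushout (R := Γ(S, V)) (S := Γ((U : Scheme.{u}), ⊤)) (R' := Γ(X, W y))
      (S' := Γ(pullback f U.ι, O))).1 hpo).symm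
  have hloc : IsLocalization.Away c Γ((U : Scheme.{u}), ⊤) := by
    have h1 := hV.isLocalization_of_eq_basicOpen c (V := U.ι ''ᵁ ⊤)
      (homOfLE (by rw [Scheme.Opens.ι_image_top]; exact hUV)) (Scheme.Opens.ι_image_top U)
    have h2 : i2 = (S.presheaf.map (homOfLE (x := U.ι ''ᵁ ⊤) (y := V)
        (by rw [Scheme.Opens.ι_image_top]; exact hUV)).op).hom.toAlgebra := by
      change (U.ι.appLE V ⊤ hle).hom.toAlgebra = _
      rw [Scheme.Opens.ι_appLE]
      rfl
    rw [h2]
    exact h1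
  have hfr : Groth.Agent.FlatA.GenericFree.FreeAway Γ(S, V) Γ(X, W y) c :=
    (hfree y).of_dvd (Finset.dvd_prod_of_mem a hyt)
  have h5 := hfr.free_tensor Γ((U : Scheme.{u}), ⊤)
  exact Module.Projective.of_equiv hpo2.out.equiv

end Groth.Agent.Sga3.H817.GenericSpread
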