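import Groth.Agent.Sga3.H817.WeilProj
import Groth.Agent.Sga3B.CentRep

/-!
# Centralizers and normalizers of subgroup schemes with locally projective coordinate rings
-/

set_option autoImplicit false
universe u
open CategoryTheory MonoidalCategory CartesianMonoidalCategory MonObj GrpObj AlgebraicGeometry Limits

namespace Groth.Agent.Sga3.H817.CentRepProj

open Groth.Agent.Sga3.H817.WeilProj Groth.Agent.Sga3B.CentRep

variable {S : Scheme.{u}}

/-- A closed condition on `X ⊗ Q` imposed along all of `Q` is represented by a closed subscheme, for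
`Q` with locally projective coordinate rings. -/
theorem exists_closed (X Q : Over S) (hQ : LocProj Q.hom) {W : Over S}
    (w : W ⟶ X ⊗ Q) [IsClosedImmersion w.left] :
    ∃ (Z : Over S) (z : Z ⟶ X), IsClosedImmersion z.left ∧
      (∀ (T : Over S) (g : T ⟶ X), (∃ a : T ⟶ Z, a ≫ z = g) ↔
        ∀ (T' : Over S) (x : T' ⟶ T) (h : T' ⟶ Q), ∃ b : T' ⟶ W, b ≫ w = lift (x ≫ g) h) ∧
      (QuasiCompact Q.hom → LocallyOfFinitePresentation w.left →
        LocallyOfFinitePresentation z.left) := by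
  have hpb : IsPullback (snd X Q).left (fst X Q).left Q.hom X.hom :=
    (IsPullback.of_hasPullback X.hom Q.hom).flip
  have h1 : LocProj (fst X Q).left := hQ.of_isPullback hpb
  obtain ⟨Z, t, ht, huniv, hfp⟩ :=
    exists_closed_weilRestriction_of_locProj (fst X Q).left w.left h1
  refine ⟨Over.mk (t ≫ X.hom), Over.homMk t rfl, ht, ?_, fun hqc hw => hfp ?_ hw⟩
  rotate_left
  · exact MorphismProperty.of_isPullback (P := @QuasiCompact) hpb hqc
  intro T g
  have h3 : (∃ a : T ⟶ Over.mk (t ≫ X.hom), a ≫ Over.homMk t rfl = g) ↔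
      ∃ a' : T.left ⟶ Z, a' ≫ t = g.left := by
    constructor
    · rintro ⟨a, rfl⟩
      exact ⟨a.left, rfl⟩
    · rintro ⟨a', ha'⟩
      refine ⟨Over.homMk a' ?_, ?_⟩
      · change a' ≫ t ≫ X.hom = _
        rw [← Category.assoc, ha', Over.w]
      · ext1; exact ha'
  rw [h3, huniv]
  constructor
  · rintro ⟨a, ha⟩ T' x h
    have e1 : (lift (x ≫ g) h).left ≫ (fst X Q).left = x.left ≫ g.left := by
      rw [← Over.comp_left, lift_fst, Over.comp_left]
    refine ⟨Over.homMk (pullback.lift (lift (x ≫ g) h).left x.left e1 ≫ a) ?_, ?_⟩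
    · rw [← Over.w w, Category.assoc, reassoc_of% ha, pullback.lift_fst_assoc, Over.w]
    · apply Over.OverMorphism.ext
      change (pullback.lift (lift (x ≫ g) h).left x.left e1 ≫ a) ≫ w.left = _
      rw [Category.assoc, ha, pullback.lift_fst]
  · intro H
    let T' : Over S := Over.mk (pullback.snd (fst X Q).left g.left ≫ T.hom)
    let x : T' ⟶ T := Over.homMk (pullback.snd (fst X Q).left g.left) rfl
    let p : T' ⟶ X ⊗ Q := Over.homMk (pullback.fst (fst X Q).left g.left) (by
      change _ = pullback.snd (fst X Q).left g.left ≫ T.hom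
      rw [← Over.w (fst X Q), pullback.condition_assoc, Over.w g])
    obtain ⟨b, hb⟩ := H T' x (p ≫ snd X Q)
    have hp : lift (x ≫ g) (p ≫ snd X Q) = p := by
      apply CartesianMonoidalCategory.hom_ext
      · rw [lift_fst]
        apply Over.OverMorphism.ext
        exact pullback.condition.symm
      · rw [lift_snd]
    rw [hp] at hb
    exact ⟨b.left, congrArg CommaMorphism.left hb⟩

/-- Version of `exists_closed` with a map into `Y` and a closed subscheme of `Y`. -/
theorem exists_closed_map {X Q Y H : Over S} (hQ : LocProj Q.hom)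
    (c : X ⊗ Q ⟶ Y) (i : H ⟶ Y) [IsClosedImmersion i.left] :
    ∃ (Z : Over S) (z : Z ⟶ X), IsClosedImmersion z.left ∧
      (∀ (T : Over S) (g : T ⟶ X), (∃ a : T ⟶ Z, a ≫ z = g) ↔
        ∀ (T' : Over S) (x : T' ⟶ T) (h : T' ⟶ Q), ∃ b : T' ⟶ H, b ≫ i = lift (x ≫ g) h ≫ c) ∧
      (QuasiCompact Q.hom → LocallyOfFinitePresentation i.left →
        LocallyOfFinitePresentation z.left) := by
  have H1 := isPullback_left (IsPullback.of_hasPullback c i)
  have H2 : IsClosedImmersion (pullback.fst c i).left := MorphismProperty.of_isPullback H1.flip inferInstance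
  obtain ⟨Z, z, hz, huniv, hfp⟩ := exists_closed X Q hQ (pullback.fst c i)
  refine ⟨Z, z, hz, fun T g => ?_, fun hq h => hfp hq (MorphismProperty.of_isPullback H1.flip h)⟩
  rw [huniv]
  refine forall_congr' fun T' => forall_congr' fun x => forall_congr' fun h => ?_
  constructor
  · rintro ⟨b, hb⟩
    exact ⟨b ≫ pullback.snd c i, by rw [Category.assoc, ← pullback.condition, ← Category.assoc, hb]⟩
  · rintro ⟨b, hb⟩
    exact ⟨pullback.lift (lift (x ≫ g) h) b hb.symm, pullback.lift_fst _ _ _⟩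

variable {G Q : Over S} [GrpObj G] [GrpObj Q] (q : Q ⟶ G) [IsMonHom q]

omit [GrpObj Q] [IsMonHom q] in
/-- The centralizer of `q : Q ⟶ G`, for `Q` with locally projective coordinate rings and `G` with
closed unit section. -/
theorem exists_centralizer (hQ : LocProj Q.hom) [IsClosedImmersion η[G].left] :
    ∃ (Z : Over S) (_ : GrpObj Z) (z : Z ⟶ G), IsClosedImmersion z.left ∧ Red.IsCentralizerOf q z ∧
      (QuasiCompact Q.hom → LocallyOfFiniteType G.hom → LocallyOfFinitePresentation z.left) := by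
  obtain ⟨Z, z, hz, huniv, hfp⟩ := exists_closed_map (X := G) (Q := Q) hQ
    (fst G Q * (snd G Q ≫ q) * (fst G Q)⁻¹ * (snd G Q ≫ q)⁻¹) η[G]
  have hz' : Mono z := Over.mono_of_mono_left z
  have key : ∀ (T : Over S) (g : T ⟶ G), (∃ a : T ⟶ Z, a ≫ z = g) ↔ g ∈ centPts q T := by
    intro T g
    rw [huniv, mem_centPts]
    refine forall_congr' fun T' => forall_congr' fun x => forall_congr' fun h => ?_
    have e : lift (x ≫ g) h ≫ (fst G Q * (snd G Q ≫ q) * (fst G Q)⁻¹ * (snd G Q ≫ q)⁻¹) =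
        (x ≫ g) * (h ≫ q) * (x ≫ g)⁻¹ * (h ≫ q)⁻¹ := by
      simp only [MonObj.comp_mul, GrpObj.comp_inv, lift_fst, lift_snd_assoc]
    rw [e]
    constructor
    · rintro ⟨b, hb⟩
      have e2 : b ≫ η[G] = 1 := by rw [one_eq_one, MonObj.comp_one]
      rw [e2, eq_comm, mul_inv_eq_one, mul_inv_eq_iff_eq_mul] at hb
      exact hb
    · intro h
      refine ⟨toUnit _, ?_⟩
      have e2 : toUnit T' ≫ η[G] = 1 := by rw [one_eq_one, MonObj.comp_one]
      rw [e2, eq_comm, mul_inv_eq_one, mul_inv_eq_iff_eq_mul]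
      exact h
  obtain ⟨i1, i2⟩ := exists_grpObj z (centPts q) key
  exact ⟨Z, i1, z, hz, ⟨i2, hz', fun T g => (key T g).trans (mem_centPts q)⟩,
    fun hq h => hfp hq locallyOfFinitePresentation_one⟩

omit [GrpObj Q] [IsMonHom q] in
/-- The normalizer of a closed subgroup with locally projective coordinate rings. -/
theorem exists_normalizer (hQ : LocProj Q.hom) [IsClosedImmersion q.left] :
    ∃ (Z : Over S) (_ : GrpObj Z) (z : Z ⟶ G), IsClosedImmersion z.left ∧ Red.IsNormalizerOf q z ∧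
      (QuasiCompact Q.hom → LocallyOfFiniteType G.hom → LocallyOfFinitePresentation q.left →
        LocallyOfFinitePresentation z.left) := by
  obtain ⟨Z₁, z₁, hz₁, huniv₁, hfp₁⟩ := exists_closed_map (X := G) (Q := Q) hQ
    (fst G Q * (snd G Q ≫ q) * (fst G Q)⁻¹) q
  obtain ⟨Z₂, z₂, hz₂, huniv₂, hfp₂⟩ := exists_closed_map (X := G) (Q := Q) hQ
    ((fst G Q)⁻¹ * (snd G Q ≫ q) * (fst G Q)) q
  obtain ⟨Z, z, hz, huniv, hfp⟩ := exists_inter z₁ z₂
  have hz' : Mono z := Over.mono_of_mono_left z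
  have key : ∀ (T : Over S) (g : T ⟶ G), (∃ a : T ⟶ Z, a ≫ z = g) ↔ g ∈ normPts q T := by
    intro T g
    rw [huniv, huniv₁, huniv₂, mem_normPts, ← forall_and]
    refine forall_congr' fun T' => ?_
    rw [← forall_and]
    refine forall_congr' fun x => ?_
    rw [← forall_and]
    refine forall_congr' fun h => ?_
    have e1 : lift (x ≫ g) h ≫ (fst G Q * (snd G Q ≫ q) * (fst G Q)⁻¹) =
        (x ≫ g) * (h ≫ q) * (x ≫ g)⁻¹ := by
      simp only [MonObj.comp_mul, GrpObj.comp_inv, lift_fst, lift_snd_assoc]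
    have e2 : lift (x ≫ g) h ≫ ((fst G Q)⁻¹ * (snd G Q ≫ q) * (fst G Q)) =
        (x ≫ g)⁻¹ * (h ≫ q) * (x ≫ g) := by
      simp only [MonObj.comp_mul, GrpObj.comp_inv, lift_fst, lift_snd_assoc]
    rw [e1, e2]
    exact and_congr (exists_congr fun _ => eq_comm) (exists_congr fun _ => eq_comm)
  obtain ⟨i1, i2⟩ := exists_grpObj z (normPts q) key
  exact ⟨Z, i1, z, hz, ⟨i2, hz', fun T g => (key T g).trans (mem_normPts q)⟩,
    fun hqc _ h => hfp (hfp₁ hqc h) (hfp₂ hqc h)⟩

end Groth.Agent.Sga3.H817.CentRepProj
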