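import Groth.Agent.S3036
import Groth.Agent.Sga3.H817.CentRepProj
import Groth.Agent.Sga3.H817.GenericSpread
import Mathlib.AlgebraicGeometry.Group.Smooth

/-!
# Generic representability of centralizers and normalizers
-/

set_option autoImplicit false
universe u
open CategoryTheory MonoidalCategory CartesianMonoidalCategory MonObj GrpObj AlgebraicGeometry
  CategoryTheory.Limits

namespace Groth.Agent.Sga3.H817.CentGen

open Groth.Agent.Sga3.H817.WeilProj Groth.Agent.Sga3.H817.CentRepProj
  Groth.Agent.Sga3.H817.GenericSpread Groth.Agent.Ega43.Locus Groth.Agent.Ega43.LocusAff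
  Groth.Agent.Ega43.ResSysSch

variable {S S' : Scheme.{u}}

theorem isPullback_map_left (t : S' ⟶ S) {X Y : Over S} (f : X ⟶ Y) :
    IsPullback (pullback.fst X.hom t) ((Over.pullback t).map f).left f.left (pullback.fst Y.hom t) := by
  refine IsPullback.of_bot (v₂₁ := pullback.snd Y.hom t) (v₂₂ := Y.hom) (h₃₁ := t) ?_ ?_
    (IsPullback.of_hasPullback Y.hom t)
  · have e1 : ((Over.pullback t).map f).left ≫ pullback.snd Y.hom t = pullback.snd X.hom t :=
      Over.w ((Over.pullback t).map f)
    rw [e1, Over.w f]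
    exact IsPullback.of_hasPullback _ _
  · exact (pullback.lift_fst _ _ _).symm

theorem iff_bcMap {P : MorphismProperty Scheme.{u}} [P.RespectsIso] (t : S' ⟶ S) {X Y : Over S}
    (f : X ⟶ Y) : P ((Over.pullback t).map f).left ↔ P (bcMap f.left Y.hom t) :=
  iff_bcMap_of_isPullback (IsPullback.of_hasPullback Y.hom t) (isPullback_map_left t f)

theorem mono_map (t : S' ⟶ S) {X Y : Over S} (f : X ⟶ Y) [Mono f] : Mono ((Over.pullback t).map f) := by
  have h1 : Mono f.left := inferInstance
  have h2 : Mono ((Over.pullback t).map f).left :=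
    (MorphismProperty.monomorphisms Scheme.{u}).of_isPullback (isPullback_map_left t f) h1
  exact Over.mono_of_mono_left _

/-- the unit section of a base change -/
theorem isClosedImmersion_one_iff (t : S' ⟶ S) (G : Over S) [GrpObj G] :
    IsClosedImmersion (η[Red.bc t G] : 𝟙_ (Over S') ⟶ Red.bc t G).left ↔
      IsClosedImmersion ((Over.pullback t).map η[G]).left := by
  have h1 : (η[Red.bc t G] : 𝟙_ (Over S') ⟶ Red.bc t G) =
      Functor.LaxMonoidal.ε (Over.pullback t) ≫ (Over.pullback t).map η[G] := rfl
  have h2 : IsIso (Functor.LaxMonoidal.ε (Over.pullback t)) := inferInstance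
  have h3 : IsIso ((Over.forget S').map (Functor.LaxMonoidal.ε (Over.pullback t))) := inferInstance
  have h4 : IsIso (Functor.LaxMonoidal.ε (Over.pullback t)).left := h3
  rw [h1, Over.comp_left]
  exact MorphismProperty.cancel_left_of_respectsIso @IsClosedImmersion _ _

/-- Over a field the unit section is a closed immersion. -/
theorem isClosedImmersion_one_field (K : Type u) [Field K] (G : Over (Spec (CommRingCat.of K))) [GrpObj G]
    [LocallyOfFiniteType G.hom] [QuasiSeparated G.hom] : IsClosedImmersion η[G].left := by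
  have h1 : IsSplitMono η[G].left := ⟨⟨⟨G.hom, Over.w η[G]⟩⟩⟩
  have h2 : Mono η[G] := Over.mono_of_mono_left _
  have h3 : QuasiCompact η[G].left := by
    have : QuasiCompact (η[G].left ≫ G.hom) := by
      have : η[G].left ≫ G.hom = 𝟙 _ := Over.w η[G]
      rw [this]
      infer_instance
    exact QuasiCompact.of_comp _ G.hom
  have h4 : LocallyOfFiniteType (𝟙_ (Over (Spec (CommRingCat.of K)))).hom :=
    inferInstanceAs (LocallyOfFiniteType (𝟙 _))
  exact Groth.Agent.S3036.result K (𝟙_ _) G η[G]

/-- Over a field a quasi-compact monomorphism of group schemes locally of finite type is a closed immersion. -/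
theorem isClosedImmersion_field (K : Type u) [Field K] (G H : Over (Spec (CommRingCat.of K))) [GrpObj G]
    [GrpObj H] [LocallyOfFiniteType G.hom] [LocallyOfFiniteType H.hom]
    (u : G ⟶ H) [IsMonHom u] [Mono u] [QuasiCompact u.left] : IsClosedImmersion u.left :=
  Groth.Agent.S3036.result K G H u

section

variable [IsIntegral S] (G H : Over S)
    [GrpObj G] [GrpObj H] [LocallyOfFinitePresentation G.hom] [QuasiCompact G.hom] [QuasiSeparated G.hom]
    [LocallyOfFinitePresentation H.hom] [QuasiCompact H.hom] [QuasiSeparated H.hom]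

theorem exists_open_isClosedImmersion (i : H ⟶ G) [IsMonHom i] [Mono i] [QuasiCompact i.left] :
    ∃ U : S.Opens, genericPoint S ∈ U ∧ IsClosedImmersion (bcMap i.left G.hom U.ι) := by
  have hFP : FP G.hom := FP.mk' _
  have hFP' : FP (i.left ≫ G.hom) := by
    rw [Over.w i]
    exact FP.mk' _
  refine exists_open_of_generic Groth.Agent.Ega43.LocusSep.fpqcInv_isClosedImmersion
    (Descends.descRow Groth.Agent.Ega43.LimitDescendClosed.descends_isClosedImmersion) i.left G.hom
    hFP hFP' ?_
  let k := S.fromSpecResidueField (genericPoint S)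
  change IsClosedImmersion (bcMap i.left G.hom k)
  refine (iff_bcMap (P := @IsClosedImmersion) k i).1 ?_
  have h1 : QuasiCompact ((Over.pullback k).map i).left :=
    MorphismProperty.of_isPullback (isPullback_map_left k i) inferInstance
  have h2 : LocallyOfFiniteType (Red.bc k G).hom :=
    inferInstanceAs (LocallyOfFiniteType (pullback.snd G.hom k))
  have h3 : LocallyOfFiniteType (Red.bc k H).hom :=
    inferInstanceAs (LocallyOfFiniteType (pullback.snd H.hom k))
  exact isClosedImmersion_field (S.residueField (genericPoint S)) (Red.bc k H) (Red.bc k G)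
    ((Over.pullback k).map i)

omit [GrpObj H] [LocallyOfFinitePresentation H.hom] [QuasiCompact H.hom] [QuasiSeparated H.hom] in
theorem exists_open_one :
    ∃ U : S.Opens, genericPoint S ∈ U ∧ IsClosedImmersion (bcMap η[G].left G.hom U.ι) := by
  have hFP : FP G.hom := FP.mk' _
  have hFP' : FP (η[G].left ≫ G.hom) := by
    have : η[G].left ≫ G.hom = 𝟙 _ := Over.w η[G]
    rw [this]
    exact FP.mk' _
  refine exists_open_of_generic Groth.Agent.Ega43.LocusSep.fpqcInv_isClosedImmersion
    (Descends.descRow Groth.Agent.Ega43.LimitDescendClosed.descends_isClosedImmersion) η[G].left G.hom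
    hFP hFP' ?_
  let k := S.fromSpecResidueField (genericPoint S)
  change IsClosedImmersion (bcMap η[G].left G.hom k)
  refine (iff_bcMap (P := @IsClosedImmersion) k η[G]).1 ((isClosedImmersion_one_iff k G).1 ?_)
  have h2 : LocallyOfFiniteType (Red.bc k G).hom :=
    inferInstanceAs (LocallyOfFiniteType (pullback.snd G.hom k))
  have h3 : QuasiSeparated (Red.bc k G).hom :=
    inferInstanceAs (QuasiSeparated (pullback.snd G.hom k))
  exact isClosedImmersion_one_field (S.residueField (genericPoint S)) (Red.bc k G)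

theorem main (i : H ⟶ G) [IsMonHom i] [Mono i] [QuasiCompact i.left] :
    ∃ U : S.Opens, (U : Set S).Nonempty ∧ IsClosedImmersion ((Over.pullback U.ι).map i).left ∧
      ∃ (C N : Over (U : Scheme.{u})) (_ : GrpObj C) (_ : GrpObj N) (c : C ⟶ Red.bc U.ι G) (n : N ⟶ Red.bc U.ι G),
        Red.IsCentralizerOf ((Over.pullback U.ι).map i) c ∧ IsClosedImmersion c.left ∧
          LocallyOfFinitePresentation C.hom ∧ QuasiCompact C.hom ∧
        Red.IsNormalizerOf ((Over.pullback U.ι).map i) n ∧ IsClosedImmersion n.left ∧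
          LocallyOfFinitePresentation N.hom ∧ QuasiCompact N.hom := by
  obtain ⟨U₁, hU₁, h1⟩ := exists_open_isClosedImmersion G H i
  obtain ⟨U₂, hU₂, h2⟩ := exists_open_one G
  obtain ⟨U₃, hU₃, h3⟩ := exists_open_locProj H.hom
  let U : S.Opens := U₁ ⊓ U₂ ⊓ U₃
  have hUg : genericPoint S ∈ U := ⟨⟨hU₁, hU₂⟩, hU₃⟩
  have e1 : U ≤ U₁ := inf_le_left.trans inf_le_left
  have e2 : U ≤ U₂ := inf_le_left.trans inf_le_right
  have e3 : U ≤ U₃ := inf_le_right
  let q := (Over.pullback U.ι).map i
  have k1 : IsClosedImmersion q.left :=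
    (iff_bcMap (P := @IsClosedImmersion) U.ι i).2 (bcMap_of_le (P := @IsClosedImmersion) e1 h1)
  have k2 : IsClosedImmersion (η[Red.bc U.ι G] : 𝟙_ (Over (U : Scheme.{u})) ⟶ Red.bc U.ι G).left :=
    (isClosedImmersion_one_iff U.ι G).2
      ((iff_bcMap (P := @IsClosedImmersion) U.ι η[G]).2 (bcMap_of_le (P := @IsClosedImmersion) e2 h2))
  have k3 : LocProj (Red.bc U.ι H).hom := by
    have hp : IsPullback (pullback.fst H.hom U₃.ι) (pullback.snd H.hom U₃.ι) H.hom U₃.ι :=
      IsPullback.of_hasPullback _ _
    have hq : IsPullback (pullback.fst H.hom U.ι) (pullback.snd H.hom U.ι) H.hom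
        (S.homOfLE e3 ≫ U₃.ι) := by
      rw [S.homOfLE_ι e3]
      exact IsPullback.of_hasPullback _ _
    have hq' : IsPullback (pullback.lift (pullback.fst H.hom U.ι) (pullback.snd H.hom U.ι ≫ S.homOfLE e3)
        (by rw [hq.w, Category.assoc])) (pullback.snd H.hom U.ι) (pullback.snd H.hom U₃.ι)
        (S.homOfLE e3) := by
      refine IsPullback.of_right (h₁₂ := pullback.fst H.hom U₃.ι) (v₁₃ := H.hom) (h₂₂ := U₃.ι) ?_ ?_ hp
      · rw [pullback.lift_fst]
        exact hq
      · rw [pullback.lift_snd]
    exact h3.of_isPullback hq'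
  have l1 : LocallyOfFinitePresentation (Red.bc U.ι G).hom :=
    inferInstanceAs (LocallyOfFinitePresentation (pullback.snd G.hom U.ι))
  have l2 : QuasiCompact (Red.bc U.ι G).hom :=
    inferInstanceAs (QuasiCompact (pullback.snd G.hom U.ι))
  have l3 : LocallyOfFinitePresentation (Red.bc U.ι H).hom :=
    inferInstanceAs (LocallyOfFinitePresentation (pullback.snd H.hom U.ι))
  have l4 : QuasiCompact (Red.bc U.ι H).hom :=
    inferInstanceAs (QuasiCompact (pullback.snd H.hom U.ι))
  have l5 : LocallyOfFinitePresentation q.left := by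
    have : LocallyOfFinitePresentation (q.left ≫ (Red.bc U.ι G).hom) := by
      rw [Over.w q]; exact l3
    exact Groth.Agent.Ega43.FPOfComp.locallyOfFinitePresentation_of_comp q.left (Red.bc U.ι G).hom
  obtain ⟨C, iC, c, hc, hcc, hcf⟩ := exists_centralizer q k3
  obtain ⟨N, iN, n, hn, hnn, hnf⟩ := exists_normalizer q k3
  have m1 : LocallyOfFinitePresentation c.left := hcf l4 inferInstance
  have m2 : LocallyOfFinitePresentation n.left := hnf l4 inferInstance l5
  refine ⟨U, ⟨_, hUg⟩, k1, C, N, iC, iN, c, n, hcc, hc, ?_, ?_, hnn, hn, ?_, ?_⟩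
  · rw [← Over.w c]; infer_instance
  · rw [← Over.w c]; infer_instance
  · rw [← Over.w n]; infer_instance
  · rw [← Over.w n]; infer_instance

end

end Groth.Agent.Sga3.H817.CentGen
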