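import Groth.Agent.Sga3.H817.HomMonoFin
import Groth.Agent.Sga3.H789.PerrinA

/-!
# A quasi-compact group scheme over a field modulo a closed normal affine subgroup

Parts (A) and (B1) of Perrin's theorem put together.
-/

set_option autoImplicit false
universe u
open CategoryTheory MonoidalCategory CartesianMonoidalCategory MonObj GrpObj AlgebraicGeometry Limits

namespace Groth.Agent.Sga3.H817.PerrinAB

open Groth.Agent.Sga3.H8.FpqcQuot

/-- **(A) + (B1)** Every quasi-compact group scheme `G` over a field `k` has a closed normal affine subgroup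
`N` such that, after a finite extension `K` of `k`, there is a schematically dominant morphism `f` from
`G_K` to a separated scheme of finite type with `f a = f b` iff `a⁻¹ b ∈ N`. -/
theorem exists_mono_mod (k : Type u) [Field k] (G : Over (Spec (CommRingCat.of k))) [GrpObj G]
    [QuasiCompact G.hom] :
    ∃ (N : Over (Spec (CommRingCat.of k))) (_ : GrpObj N) (n : N ⟶ G),
      IsMonHom n ∧ IsClosedImmersion n.left ∧ AlgGrp.IsNormalHom n ∧ IsAffine N.left ∧
      ∃ (K : Type u) (_ : Field K) (_ : Algebra k K) (_ : Module.Finite k K)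
        (Z : Over (Spec (CommRingCat.of K)))
        (f : Red.bc (Spec.map (CommRingCat.ofHom (algebraMap k K))) G ⟶ Z),
        LocallyOfFiniteType Z.hom ∧ QuasiCompact Z.hom ∧ IsSeparated Z.hom ∧
        IsSchemeTheoreticallyDominant f.left ∧
        KerRel ((Over.pullback (Spec.map (CommRingCat.ofHom (algebraMap k K)))).map n) f := by
  obtain ⟨X, X₀, N, gN, p, p₀, F, n, ⟨a1, a2, a3⟩, ⟨b1, b2, b3⟩, ⟨c1, c2⟩, -, hF, ⟨d1, d2, d3, d4⟩, hN⟩ :=
    Groth.Agent.Sga3.H789.PerrinA.exists_data k G
  exact ⟨N, gN, n, d1, d2, d3, d4, HomMonoFin.exists_map_of_pairing p₀ p F hF n hN⟩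

end Groth.Agent.Sga3.H817.PerrinAB
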