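import Groth.Agent.Sga3.H817.Jets
import Mathlib.RingTheory.Jacobson.Artinian
import Mathlib.RingTheory.Nullstellensatz

/-!
# Local Artinian test schemes are jointly schematically dominant
-/

set_option autoImplicit false
universe u
open CategoryTheory MonoidalCategory CartesianMonoidalCategory AlgebraicGeometry Opposite Limits
open scoped TensorProduct

namespace Groth.Agent.Sga3.H817.ArtTest

open Groth.Agent.Books.AffBridge Groth.Agent.Picfga.OverRep Groth.Agent.Sga3C
  Groth.Agent.Sga3B.OverAff898 Groth.Agent.Sga3B.HomFun898 Groth.Agent.Sga3.H817.Jets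

section algebra

/-- An element of all powers of all maximal ideals of a Noetherian ring is zero. -/
lemma eq_zero_of_mem_pow {A : Type*} [CommRing A] [IsNoetherianRing A] (c : A)
    (h : ∀ (m : Ideal A) [m.IsMaximal] (n : ℕ), c ∈ m ^ (n + 1)) : c = 0 := by
  by_contra hc
  let I : Ideal A := Submodule.annihilator (Ideal.span {c})
  have hI : I ≠ ⊤ := by
    intro h1
    have : (1 : A) ∈ I := h1 ▸ Submodule.mem_top
    rw [Submodule.mem_annihilator] at this
    exact hc (by simpa using this c (Ideal.mem_span_singleton_self c))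
  obtain ⟨m, hm, hIm⟩ := Ideal.exists_le_maximal I hI
  have h1 : c ∈ (⨅ i : ℕ, m ^ i • ⊤ : Submodule A A) := by
    rw [Submodule.mem_iInf]
    intro i
    have h0 : (m ^ i • ⊤ : Submodule A A) = m ^ i := by
      rw [smul_eq_mul, Ideal.mul_top]
    rw [h0]
    exact Ideal.pow_le_pow_right (Nat.le_succ i) (h m i)
  obtain ⟨r, hr⟩ := (Ideal.mem_iInf_smul_pow_eq_bot_iff m c).1 h1
  have h2 : (1 : A) - r ∈ I := by
    rw [Submodule.mem_annihilator_span_singleton]
    rw [sub_smul, one_smul, hr, sub_self]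
  have h3 : (1 : A) ∈ m := by
    have := m.add_mem (hIm h2) r.2
    simpa using this
  exact hm.ne_top ((Ideal.eq_top_iff_one _).2 h3)

variable {k : Type u} [Field k] {A B : Type u} [CommRing A] [Algebra k A] [CommRing B] [Algebra k B]

lemma eq_zero_of_map [IsNoetherianRing A] (z : A ⊗[k] B)
    (h : ∀ (m : Ideal A) [m.IsMaximal] (n : ℕ),
      Algebra.TensorProduct.map (Ideal.Quotient.mkₐ k (m ^ (n + 1))) (AlgHom.id k B) z = 0) :
    z = 0 := by
  let b := Module.Free.chooseBasis k B
  have h1 : ∀ i, (Groth.Agent.Sga3B.Hens.WeilRes.bas b A).repr z i = 0 := by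
    intro i
    apply eq_zero_of_mem_pow
    intro m _ n
    have := (Groth.Agent.Sga3B.Hens.WeilRes.map_eq_zero_iff b _ z).1 (h m n) i
    exact Ideal.Quotient.eq_zero_iff_mem.1 this
  apply (Groth.Agent.Sga3B.Hens.WeilRes.bas b A).repr.map_eq_zero_iff.1
  ext i
  exact h1 i

lemma eq_zero_of_map' [IsNoetherianRing A] (z : B ⊗[k] A)
    (h : ∀ (m : Ideal A) [m.IsMaximal] (n : ℕ),
      Algebra.TensorProduct.map (AlgHom.id k B) (Ideal.Quotient.mkₐ k (m ^ (n + 1))) z = 0) :
    z = 0 := by
  have h1 : Algebra.TensorProduct.comm k B A z = 0 := by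
    apply eq_zero_of_map
    intro m _ n
    have h2 : ∀ z : B ⊗[k] A, Algebra.TensorProduct.map (Ideal.Quotient.mkₐ k (m ^ (n + 1)))
        (AlgHom.id k B) (Algebra.TensorProduct.comm k B A z) =
        Algebra.TensorProduct.comm k B _ (Algebra.TensorProduct.map (AlgHom.id k B)
          (Ideal.Quotient.mkₐ k (m ^ (n + 1))) z) := by
      intro z
      induction z with
      | zero => simp
      | add x y hx hy => simp only [map_add, hx, hy]
      | tmul x y => simp
    rw [h2, h m n, map_zero]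
  exact (map_eq_zero_iff _ (Algebra.TensorProduct.comm k B A).injective).1 h1

/-- The quotient by a power of a maximal ideal is finite. -/
lemma finite_quotient_pow [Algebra.FiniteType k A] (m : Ideal A) [m.IsMaximal] (n : ℕ) :
    Module.Finite k (A ⧸ m ^ (n + 1)) := by
  have h1 : IsNoetherianRing A := Algebra.FiniteType.isNoetherianRing k A
  have h2 : Ring.KrullDimLE 0 (A ⧸ m ^ (n + 1)) := by
    rw [Ring.krullDimLE_zero_iff]
    intro p hp
    have h3 : (p.comap (Ideal.Quotient.mk (m ^ (n + 1)))).IsPrime := inferInstance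
    have h4 : m ^ (n + 1) ≤ p.comap (Ideal.Quotient.mk (m ^ (n + 1))) := by
      intro x hx
      rw [Ideal.mem_comap, Ideal.Quotient.eq_zero_iff_mem.2 hx]
      exact p.zero_mem
    have h5 : m ≤ p.comap (Ideal.Quotient.mk (m ^ (n + 1))) := h3.le_of_pow_le h4
    have h6 : m = p.comap (Ideal.Quotient.mk (m ^ (n + 1))) :=
      (inferInstance : m.IsMaximal).eq_of_le h3.ne_top h5
    have h7 : (p.comap (Ideal.Quotient.mk (m ^ (n + 1)))).IsMaximal := h6 ▸ inferInstance
    have h8 := Ideal.map_comap_of_surjective (Ideal.Quotient.mk (m ^ (n + 1)))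
      Ideal.Quotient.mk_surjective p
    rcases Ideal.map_eq_top_or_isMaximal_of_surjective (Ideal.Quotient.mk (m ^ (n + 1)))
      Ideal.Quotient.mk_surjective h7 with h9 | h9
    · exact absurd (h8 ▸ h9) hp.ne_top
    · rwa [h8] at h9
  exact (Module.finite_iff_krullDimLE_zero k _).2 h2

/-- The augmentation of the quotient by a power of a maximal ideal. -/
lemma exists_augmentation [IsAlgClosed k] [Algebra.FiniteType k A] (m : Ideal A) [m.IsMaximal]
    (n : ℕ) : ∃ ε : (A ⧸ m ^ (n + 1)) →ₐ[k] k, ∀ x, ε x = 0 → IsNilpotent x := by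
  have h1 : Module.Finite k (A ⧸ m) := by
    let := Ideal.Quotient.field m
    exact finite_of_finite_type_of_isJacobsonRing k (A ⧸ m)
  have h2 : Function.Bijective (algebraMap k (A ⧸ m)) := by
    let := Ideal.Quotient.field m
    exact IsAlgClosed.algebraMap_bijective_of_isIntegral
  let e : k ≃ₐ[k] (A ⧸ m) := AlgEquiv.ofBijective (Algebra.ofId k (A ⧸ m)) h2
  refine ⟨e.symm.toAlgHom.comp (Ideal.Quotient.factorₐ k
    (Ideal.pow_le_self (Nat.succ_ne_zero n) : m ^ (n + 1) ≤ m)), ?_⟩
  intro x hx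
  obtain ⟨a, rfl⟩ := Ideal.Quotient.mk_surjective x
  have h3 : Ideal.Quotient.mk m a = 0 := by
    have : e.symm (Ideal.Quotient.mk m a) = 0 := hx
    simpa using this
  refine ⟨n + 1, ?_⟩
  rw [← map_pow]
  exact Ideal.Quotient.eq_zero_iff_mem.2 (Ideal.pow_mem_pow (Ideal.Quotient.eq_zero_iff_mem.1 h3) _)

end algebra

section scheme

variable {k : Type u} [Field k]

lemma prodHom_naturality_left {Λ Λ' : Type u} (B : Type u) [CommRing Λ] [Algebra k Λ] [CommRing Λ']
    [Algebra k Λ'] [CommRing B] [Algebra k B] (φ : Λ →ₐ[k] Λ') :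
    specMap k (Algebra.TensorProduct.map (AlgHom.id k B) φ) ≫ prodHom Λ B =
      prodHom Λ' B ≫ (specMap k φ ▷ SpecOver k B) := by
  apply CartesianMonoidalCategory.hom_ext
  · simp only [prodHom, Category.assoc, lift_fst, whiskerRight_fst, lift_fst_assoc]
    rw [← specMap_comp, ← specMap_comp]
    congr 1
  · simp only [prodHom, Category.assoc, lift_snd, whiskerRight_snd]
    rw [← specMap_comp]
    congr 1
    ext x
    simp

lemma eq_of_tests_affine {A B : Type u} [CommRing A] [Algebra k A] [Algebra.FiniteType k A]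
    [CommRing B] [Algebra k B] {Y : Over (Spec (CommRingCat.of k))} [IsSeparated Y.hom]
    (φ ψ : SpecOver k A ⊗ SpecOver k B ⟶ Y)
    (h : ∀ (m : Ideal A) [m.IsMaximal] (n : ℕ),
      (specMap k (Ideal.Quotient.mkₐ k (m ^ (n + 1))) ▷ SpecOver k B) ≫ φ =
      (specMap k (Ideal.Quotient.mkₐ k (m ^ (n + 1))) ▷ SpecOver k B) ≫ ψ) : φ = ψ := by
  have hA : IsNoetherianRing A := Algebra.FiniteType.isNoetherianRing k A
  rw [← cancel_epi (prodHom A B)]
  let e := equalizer.ι (prodHom A B ≫ φ) (prodHom A B ≫ ψ)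
  have he : IsClosedImmersion e.left := inferInstance
  obtain ⟨I, i, hi⟩ := (IsClosedImmersion.Spec_iff (R := CommRingCat.of (B ⊗[k] A)) (f := e.left)).1 he
  have hI : I = ⊥ := by
    rw [eq_bot_iff]
    intro z hz
    rw [Ideal.mem_bot]
    apply eq_zero_of_map'
    intro m _ n
    let g : SpecOver k (B ⊗[k] (A ⧸ m ^ (n + 1))) ⟶ SpecOver k (B ⊗[k] A) :=
      specMap k (Algebra.TensorProduct.map (AlgHom.id k B) (Ideal.Quotient.mkₐ k (m ^ (n + 1))))
    have hg : g ≫ prodHom A B ≫ φ = g ≫ prodHom A B ≫ ψ := by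
      have h1 : g ≫ prodHom A B = prodHom _ B ≫ (specMap k (Ideal.Quotient.mkₐ k (m ^ (n + 1))) ▷ SpecOver k B) :=
        prodHom_naturality_left B _
      rw [reassoc_of% h1, reassoc_of% h1, h]
    have h2 : equalizer.lift g hg ≫ e = g := equalizer.lift_ι _ _
    let l : Spec (CommRingCat.of (B ⊗[k] (A ⧸ m ^ (n + 1)))) ⟶
      (equalizer (prodHom A B ≫ φ) (prodHom A B ≫ ψ)).left := (equalizer.lift g hg).left
    have h3 : l ≫ i.hom ≫ Spec.map (CommRingCat.ofHom (Ideal.Quotient.mk I)) =
        Spec.map (CommRingCat.ofHom (Algebra.TensorProduct.map (AlgHom.id k B)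
          (Ideal.Quotient.mkₐ k (m ^ (n + 1)))).toRingHom) := by
      rw [← hi]
      exact congrArg CommaMorphism.left h2
    have h4 : CommRingCat.ofHom (Ideal.Quotient.mk I) ≫
        Spec.preimage (l ≫ i.hom) =
        CommRingCat.ofHom (Algebra.TensorProduct.map (AlgHom.id k B)
          (Ideal.Quotient.mkₐ k (m ^ (n + 1)))).toRingHom := by
      apply Spec.map_injective
      rw [Spec.map_comp, Spec.map_preimage, Category.assoc]
      exact h3
    have h5 := congrArg (fun f => f.hom z) h4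
    have h6 : Ideal.Quotient.mk I z = 0 := Ideal.Quotient.eq_zero_iff_mem.2 hz
    have h7 : (CommRingCat.ofHom (Ideal.Quotient.mk I) ≫
        Spec.preimage (l ≫ i.hom)).hom z = 0 := by
      change (Spec.preimage (l ≫ i.hom)).hom (Ideal.Quotient.mk I z) = 0
      rw [h6, map_zero]
    exact h5.symm.trans h7
  subst hI
  have h8 : IsIso (Spec.map (CommRingCat.ofHom (Ideal.Quotient.mk (⊥ : Ideal (B ⊗[k] A))))) := by
    have : IsIso (CommRingCat.ofHom (Ideal.Quotient.mk (⊥ : Ideal (B ⊗[k] A)))) :=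
      (ConcreteCategory.isIso_iff_bijective _).2
        ⟨(RingHom.injective_iff_ker_eq_bot _).2 Ideal.mk_ker, Ideal.Quotient.mk_surjective⟩
    infer_instance
  have h9 : IsIso e.left := by
    have : IsIso (i.hom ≫ Spec.map (CommRingCat.ofHom (Ideal.Quotient.mk (⊥ : Ideal (B ⊗[k] A))))) :=
      IsIso.comp_isIso' inferInstance h8
    rw [hi]
    exact this
  have h10 := congrArg CommaMorphism.left (equalizer.condition (prodHom A B ≫ φ) (prodHom A B ≫ ψ))
  ext1
  exact (cancel_epi e.left).1 h10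

/-- Local Artinian test objects of `E` with one rational point. -/
structure Test (E : Over (Spec (CommRingCat.of k))) where
  /-- the algebra -/
  Λ : Type u
  [commRing : CommRing Λ]
  [algebra : Algebra k Λ]
  [finite : Module.Finite k Λ]
  /-- the augmentation -/
  ε : Λ →ₐ[k] k
  hε : ∀ x, ε x = 0 → IsNilpotent x
  /-- the map -/
  t : SpecOver k Λ ⟶ E

attribute [instance] Test.commRing Test.algebra Test.finite

/-- Over an algebraically closed field, the local Artinian test objects of a scheme locally of finite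
type are universally jointly schematically dominant. -/
theorem eq_of_tests [IsAlgClosed k] {E T Y : Over (Spec (CommRingCat.of k))}
    [LocallyOfFiniteType E.hom] [IsSeparated Y.hom] (φ ψ : E ⊗ T ⟶ Y)
    (h : ∀ τ : Test E, (τ.t ▷ T) ≫ φ = (τ.t ▷ T) ≫ ψ) : φ = ψ := by
  apply hom_ext_of_covers
  intro z
  obtain ⟨A, _, _, jE, hjE, x, hx⟩ := exists_affine_nhd E ((fst E T).left z)
  obtain ⟨B, _, _, jT, hjT, y, hy⟩ := exists_affine_nhd T ((snd E T).left z)
  have o1 : IsOpenImmersion (jE ▷ T).left :=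
    MorphismProperty.of_isPullback (SchemImage.isPullback_whiskerRight_left jE T).flip hjE
  have o2 : IsOpenImmersion (SpecOver k A ◁ jT).left :=
    MorphismProperty.of_isPullback (SchemImage.isPullback_whiskerLeft_left jT (SpecOver k A)).flip hjT
  obtain ⟨w, hw, -⟩ := Scheme.exists_preimage_of_isPullback
    (SchemImage.isPullback_whiskerRight_left jE T) z x hx.symm
  have hw2 : (snd (SpecOver k A) T).left w = jT.left y := by
    rw [hy, ← hw, ← Scheme.Hom.comp_apply, ← Over.comp_left, whiskerRight_snd]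
  obtain ⟨v, hv, -⟩ := Scheme.exists_preimage_of_isPullback
    (SchemImage.isPullback_whiskerLeft_left jT (SpecOver k A)) w y hw2
  have hA : Algebra.FiniteType k A := by
    have h1 : LocallyOfFiniteType (jE.left ≫ E.hom) := inferInstance
    rw [Over.w jE] at h1
    exact RingHom.finiteType_algebraMap.1
      ((HasRingHomProperty.Spec_iff (P := @LocallyOfFiniteType)).1 h1)
  refine ⟨SpecOver k A ⊗ SpecOver k B, (SpecOver k A ◁ jT) ≫ (jE ▷ T), ?_, ⟨v, ?_⟩, ?_⟩
  · rw [Over.comp_left]; infer_instance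
  · rw [Over.comp_left, Scheme.Hom.comp_apply, hv, hw]
  · apply eq_of_tests_affine
    intro m _ n
    obtain ⟨ε, hε⟩ := exists_augmentation (k := k) m n
    have hfin := finite_quotient_pow (k := k) m n
    have h1 := h ⟨A ⧸ m ^ (n + 1), ε, hε, specMap k (Ideal.Quotient.mkₐ k (m ^ (n + 1))) ≫ jE⟩
    have h2 : ∀ χ : E ⊗ T ⟶ Y, (specMap k (Ideal.Quotient.mkₐ k (m ^ (n + 1))) ▷ SpecOver k B) ≫
        ((SpecOver k A ◁ jT) ≫ (jE ▷ T)) ≫ χ = (SpecOver k (A ⧸ m ^ (n + 1)) ◁ jT) ≫
        ((specMap k (Ideal.Quotient.mkₐ k (m ^ (n + 1))) ≫ jE) ▷ T) ≫ χ := by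
      intro χ
      rw [Category.assoc, ← whisker_exchange_assoc, MonoidalCategory.comp_whiskerRight, Category.assoc]
    rw [h2, h2]
    exact congrArg (fun f => (SpecOver k (A ⧸ m ^ (n + 1)) ◁ jT) ≫ f) h1

end scheme

end Groth.Agent.Sga3.H817.ArtTest
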