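import Groth.Agent.Sga3.H817.HomMono
import Groth.Agent.Sga3B.BcPts
import Mathlib.FieldTheory.IsAlgClosed.AlgebraicClosure

/-!
# Finite families of test objects; splitting of residue fields by a finite extension
-/

set_option autoImplicit false
universe w u
open CategoryTheory MonoidalCategory CartesianMonoidalCategory AlgebraicGeometry Opposite Limits
open scoped TensorProduct

namespace Groth.Agent.Sga3.H817.FinTests

open Groth.Agent.Books.AffBridge Groth.Agent.Picfga.OverRep Groth.Agent.Sga3C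
  Groth.Agent.Sga3B.OverAff898 Groth.Agent.Sga3B.HomFun898 Groth.Agent.Sga3.H817.Jets
  Groth.Agent.Sga3.H817.ArtTest Groth.Agent.Sga3.H817.HomMono

section family

variable {k : Type u} [Field k] {E X Y : Over (Spec (CommRingCat.of k))}

/-- Finitely many members of a jointly dominant family of affine test objects suffice to detect equality
in `Hom(E, Y)`. -/
theorem exists_finite_family {ι : Type w} (D : ι → Over (Spec (CommRingCat.of k)))
    (t : ∀ i, D i ⟶ E) [LocallyOfFiniteType X.hom] [QuasiCompact X.hom] [IsSeparated Y.hom]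
    (hE : ∀ (T : Over (Spec (CommRingCat.of k))) (φ ψ : E ⊗ T ⟶ Y),
      (∀ i, (t i ▷ T) ≫ φ = (t i ▷ T) ≫ ψ) → φ = ψ) (Φ : E ⊗ X ⟶ Y) :
    ∃ L : List ι, ∀ (T : Over (Spec (CommRingCat.of k))) (u v : T ⟶ X),
      (∀ i ∈ L, (D i ◁ u) ≫ (t i ▷ X) ≫ Φ = (D i ◁ v) ≫ (t i ▷ X) ≫ Φ) ↔
        (E ◁ u) ≫ Φ = (E ◁ v) ≫ Φ := by
  have hN : AlgebraicGeometry.IsNoetherian (X ⊗ X).left := by
    have h1 : LocallyOfFiniteType (X ⊗ X).hom :=
      inferInstanceAs (LocallyOfFiniteType (pullback.fst X.hom X.hom ≫ X.hom))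
    have h2 : QuasiCompact (X ⊗ X).hom :=
      inferInstanceAs (QuasiCompact (pullback.fst X.hom X.hom ≫ X.hom))
    have h3 : IsLocallyNoetherian (X ⊗ X).left := LocallyOfFiniteType.isLocallyNoetherian (X ⊗ X).hom
    have h4 : CompactSpace (X ⊗ X).left := QuasiCompact.compactSpace_of_compactSpace (X ⊗ X).hom
    exact { }
  have htm : ∀ (i : ι) {T : Over (Spec (CommRingCat.of k))} (u : T ⟶ X),
      (D i ◁ u) ≫ (t i ▷ X) ≫ Φ = (t i ▷ T) ≫ (E ◁ u) ≫ Φ := by
    intro i T u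
    rw [whisker_exchange_assoc]
  let P : (X ⊗ X).left.IdealSheafData → Prop := fun I => ∃ L : List ι,
    ∀ (T : Over (Spec (CommRingCat.of k))) (g : T ⟶ X ⊗ X), I ≤ g.left.ker ↔
      ∀ i ∈ L, (D i ◁ (g ≫ fst X X)) ≫ (t i ▷ X) ≫ Φ =
        (D i ◁ (g ≫ snd X X)) ≫ (t i ▷ X) ≫ Φ
  have hwf : WellFoundedGT (X ⊗ X).left.IdealSheafData := Groth.Agent.Divis.ColonIdeal.wellFoundedGT
  obtain ⟨I, ⟨L, hL⟩, hmax⟩ := hwf.wf.has_min {I | P I} ⟨⊥, [], fun T g => by simp⟩
  have hle : ∀ (i : ι) (T : Over (Spec (CommRingCat.of k))) (g : T ⟶ X ⊗ X), I ≤ g.left.ker →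
      (D i ◁ (g ≫ fst X X)) ≫ (t i ▷ X) ≫ Φ = (D i ◁ (g ≫ snd X X)) ≫ (t i ▷ X) ≫ Φ := by
    intro i T g hg
    obtain ⟨J, hJ⟩ := exists_agree_ideal (locProj_of_field (D i).hom) ((t i ▷ X) ≫ Φ)
    rw [← hJ]
    have h1 : ¬ I < I ⊔ J := by
      intro hlt
      refine hmax (I ⊔ J) ⟨i :: L, fun T g => ?_⟩ hlt
      rw [sup_le_iff, hL, hJ, List.forall_mem_cons, and_comm]
    have h2 : I ⊔ J ≤ I := by
      by_contra h3
      exact h1 (lt_of_le_not_ge le_sup_left h3)
    exact (le_sup_right.trans h2).trans hg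
  let g₀ : Over.mk (I.subschemeι ≫ (X ⊗ X).hom) ⟶ X ⊗ X := Over.homMk I.subschemeι rfl
  have hg₀ : g₀.left.ker = I := I.ker_subschemeι
  have key : (E ◁ (g₀ ≫ fst X X)) ≫ Φ = (E ◁ (g₀ ≫ snd X X)) ≫ Φ := by
    apply hE
    intro i
    rw [← htm, ← htm]
    exact hle i _ g₀ hg₀.ge
  refine ⟨L, fun T u v => ⟨fun h => ?_, fun h i _ => ?_⟩⟩
  · have h1 : I ≤ (lift u v).left.ker := by
      rw [hL]
      simpa only [lift_fst, lift_snd] using h
    have h2 : g₀.left.ker ≤ (lift u v).left.ker := hg₀.le.trans h1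
    have hcl : IsClosedImmersion g₀.left := inferInstanceAs (IsClosedImmersion I.subschemeι)
    obtain ⟨a, ha⟩ : ∃ a : T ⟶ Over.mk (I.subschemeι ≫ (X ⊗ X).hom), a ≫ g₀ = lift u v := by
      refine ⟨Over.homMk (IsClosedImmersion.lift g₀.left (lift u v).left h2) ?_, ?_⟩
      · rw [← Over.w g₀, ← Category.assoc, IsClosedImmersion.lift_fac, Over.w]
      · apply Over.OverMorphism.ext
        exact IsClosedImmersion.lift_fac g₀.left (lift u v).left h2
    have h3 : u = a ≫ g₀ ≫ fst X X := by rw [← Category.assoc, ha, lift_fst]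
    have h4 : v = a ≫ g₀ ≫ snd X X := by rw [← Category.assoc, ha, lift_snd]
    rw [h3, h4, MonoidalCategory.whiskerLeft_comp, MonoidalCategory.whiskerLeft_comp E a,
      Category.assoc, Category.assoc, key]
  · rw [htm, htm, h]

/-- Finite test objects over an arbitrary field. -/
structure FTest (E : Over (Spec (CommRingCat.of k))) where
  /-- the algebra -/
  Λ : Type u
  [commRing : CommRing Λ]
  [algebra : Algebra k Λ]
  [finite : Module.Finite k Λ]
  /-- the map -/
  t : SpecOver k Λ ⟶ E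

attribute [instance] FTest.commRing FTest.algebra FTest.finite

/-- Over any field the finite test objects of a scheme locally of finite type are universally jointly
schematically dominant. -/
theorem eq_of_ftests {E T Y : Over (Spec (CommRingCat.of k))}
    [LocallyOfFiniteType E.hom] [IsSeparated Y.hom] (φ ψ : E ⊗ T ⟶ Y)
    (h : ∀ τ : FTest E, (τ.t ▷ T) ≫ φ = (τ.t ▷ T) ≫ ψ) : φ = ψ := by
  apply hom_ext_of_covers
  intro z
  obtain ⟨A, _, _, jE, hjE, x, hx⟩ := exists_affine_nhd E ((fst E T).left z)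
  obtain ⟨B, _, _, jT, hjT, y, hy⟩ := exists_affine_nhd T ((snd E T).left z)
  have o1 : IsOpenImmersion (jE ▷ T).left :=
    MorphismProperty.of_isPullback (SchemImage.isPullback_whiskerRight_left jE T).flip hjE
  have o2 : IsOpenImmersion (SpecOver k A ◁ jT).left :=
    MorphismProperty.of_isPullback (SchemImage.isPullback_whiskerLeft_left jT (SpecOver k A)).flip hjT
  obtain ⟨w, hw, -⟩ := Scheme.exists_preimage_of_isPullback
    (SchemImage.isPullback_whiskerRight_left jE T) z x hx.symm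
  have hw2 : (snd (SpecOver k A) T).left w = jT.left y := by
    rw [hy, ← hw, ← Scheme.Hom.comp_apply, ← Over.comp_left, whiskerRight_snd]
  obtain ⟨v, hv, -⟩ := Scheme.exists_preimage_of_isPullback
    (SchemImage.isPullback_whiskerLeft_left jT (SpecOver k A)) w y hw2
  have hA : Algebra.FiniteType k A := by
    have h1 : LocallyOfFiniteType (jE.left ≫ E.hom) := inferInstance
    rw [Over.w jE] at h1
    exact RingHom.finiteType_algebraMap.1
      ((HasRingHomProperty.Spec_iff (P := @LocallyOfFiniteType)).1 h1)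
  refine ⟨SpecOver k A ⊗ SpecOver k B, (SpecOver k A ◁ jT) ≫ (jE ▷ T), ?_, ⟨v, ?_⟩, ?_⟩
  · rw [Over.comp_left]; infer_instance
  · rw [Over.comp_left, Scheme.Hom.comp_apply, hv, hw]
  · apply eq_of_tests_affine
    intro m _ n
    have hfin := finite_quotient_pow (k := k) m n
    have h1 := h ⟨A ⧸ m ^ (n + 1), specMap k (Ideal.Quotient.mkₐ k (m ^ (n + 1))) ≫ jE⟩
    have h2 : ∀ χ : E ⊗ T ⟶ Y, (specMap k (Ideal.Quotient.mkₐ k (m ^ (n + 1))) ▷ SpecOver k B) ≫
        ((SpecOver k A ◁ jT) ≫ (jE ▷ T)) ≫ χ = (SpecOver k (A ⧸ m ^ (n + 1)) ◁ jT) ≫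
        ((specMap k (Ideal.Quotient.mkₐ k (m ^ (n + 1))) ≫ jE) ▷ T) ≫ χ := by
      intro χ
      rw [Category.assoc, ← whisker_exchange_assoc, MonoidalCategory.comp_whiskerRight, Category.assoc]
    rw [h2, h2]
    exact congrArg (fun f => (SpecOver k (A ⧸ m ^ (n + 1)) ◁ jT) ≫ f) h1

/-- The augmentation of the quotient by a power of a maximal ideal with trivial residue field. -/
lemma exists_augmentation_of_surjective {A : Type u} [CommRing A] [Algebra k A] (m : Ideal A)
    [m.IsMaximal] (hm : Function.Surjective (algebraMap k (A ⧸ m)))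
    (n : ℕ) : ∃ ε : (A ⧸ m ^ (n + 1)) →ₐ[k] k, ∀ x, ε x = 0 → IsNilpotent x := by
  let e : k ≃ₐ[k] (A ⧸ m) := AlgEquiv.ofBijective (Algebra.ofId k (A ⧸ m))
    ⟨(algebraMap k (A ⧸ m)).injective, hm⟩
  refine ⟨e.symm.toAlgHom.comp (Ideal.Quotient.factorₐ k
    (Ideal.pow_le_self (Nat.succ_ne_zero n) : m ^ (n + 1) ≤ m)), ?_⟩
  intro x hx
  obtain ⟨a, rfl⟩ := Ideal.Quotient.mk_surjective x
  have h3 : Ideal.Quotient.mk m a = 0 := by
    have : e.symm (Ideal.Quotient.mk m a) = 0 := hx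
    simpa using this
  refine ⟨n + 1, ?_⟩
  rw [← map_pow]
  exact Ideal.Quotient.eq_zero_iff_mem.2 (Ideal.pow_mem_pow (Ideal.Quotient.eq_zero_iff_mem.1 h3) _)

/-- The augmented test objects of a finite algebra with trivial residue fields are universally jointly
schematically dominant. -/
theorem eq_of_tests_of_surjective {A : Type u} [CommRing A] [Algebra k A] [Algebra.FiniteType k A]
    (hA : ∀ (m : Ideal A) [m.IsMaximal], Function.Surjective (algebraMap k (A ⧸ m)))
    {E T Y : Over (Spec (CommRingCat.of k))} (e : SpecOver k A ≅ E)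
    [IsSeparated Y.hom] (φ ψ : E ⊗ T ⟶ Y)
    (h : ∀ τ : Test E, (τ.t ▷ T) ≫ φ = (τ.t ▷ T) ≫ ψ) : φ = ψ := by
  rw [← cancel_epi (e.hom ▷ T)]
  apply hom_ext_of_covers
  intro z
  obtain ⟨B, _, _, jT, hjT, y, hy⟩ := exists_affine_nhd T ((snd (SpecOver k A) T).left z)
  have o2 : IsOpenImmersion (SpecOver k A ◁ jT).left :=
    MorphismProperty.of_isPullback (SchemImage.isPullback_whiskerLeft_left jT (SpecOver k A)).flip hjT
  obtain ⟨v, hv, -⟩ := Scheme.exists_preimage_of_isPullback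
    (SchemImage.isPullback_whiskerLeft_left jT (SpecOver k A)) z y hy.symm
  refine ⟨SpecOver k A ⊗ SpecOver k B, SpecOver k A ◁ jT, o2, ⟨v, hv⟩, ?_⟩
  apply eq_of_tests_affine
  intro m _ n
  obtain ⟨ε, hε⟩ := exists_augmentation_of_surjective m (hA m) n
  have hfin := finite_quotient_pow (k := k) m n
  have h1 := h ⟨A ⧸ m ^ (n + 1), ε, hε, specMap k (Ideal.Quotient.mkₐ k (m ^ (n + 1))) ≫ e.hom⟩
  have h2 : ∀ χ : E ⊗ T ⟶ Y, (specMap k (Ideal.Quotient.mkₐ k (m ^ (n + 1))) ▷ SpecOver k B) ≫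
      (SpecOver k A ◁ jT) ≫ (e.hom ▷ T) ≫ χ = (SpecOver k (A ⧸ m ^ (n + 1)) ◁ jT) ≫
      ((specMap k (Ideal.Quotient.mkₐ k (m ^ (n + 1))) ≫ e.hom) ▷ T) ≫ χ := by
    intro χ
    rw [← whisker_exchange_assoc, MonoidalCategory.comp_whiskerRight, Category.assoc]
  rw [h2, h2]
  exact congrArg (fun f => (SpecOver k (A ⧸ m ^ (n + 1)) ◁ jT) ≫ f) h1

end family

section splitting

variable {k : Type u} [Field k]

/-- The residue fields of `K ⊗ Λ` are trivial if `K` contains the images of all embeddings of `Λ`. -/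
lemma surjective_of_range (Λ : Type u) [CommRing Λ] [Algebra k Λ] [Module.Finite k Λ]
    (K : Type u) [Field K] [Algebra k K] [Algebra K (AlgebraicClosure k)]
    [IsScalarTower k K (AlgebraicClosure k)]
    (hK : ∀ (f : Λ →ₐ[k] AlgebraicClosure k) (x : Λ), f x ∈ (algebraMap K (AlgebraicClosure k)).range)
    (M : Ideal (K ⊗[k] Λ)) [M.IsMaximal] :
    Function.Surjective (algebraMap K ((K ⊗[k] Λ) ⧸ M)) := by
  let := Ideal.Quotient.field M
  have h1 : Module.Finite K ((K ⊗[k] Λ) ⧸ M) := inferInstance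
  have h2 : Algebra.IsAlgebraic K ((K ⊗[k] Λ) ⧸ M) := inferInstance
  let σ : ((K ⊗[k] Λ) ⧸ M) →ₐ[K] AlgebraicClosure k := IsAlgClosed.lift
  have h3 : ∀ z : K ⊗[k] Λ, σ (Ideal.Quotient.mk M z) ∈ (algebraMap K (AlgebraicClosure k)).range := by
    intro z
    induction z with
    | zero => simp
    | add x y hx hy => rw [map_add, map_add]; exact add_mem hx hy
    | tmul x y =>
      have h4 : Ideal.Quotient.mk M (x ⊗ₜ[k] y) =
          x • (Ideal.Quotient.mkₐ k M) (Algebra.TensorProduct.includeRight y) := by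
        rw [Ideal.Quotient.mkₐ_eq_mk, Algebra.TensorProduct.includeRight_apply,
          ← Ideal.Quotient.mkₐ_eq_mk K, ← map_smul, TensorProduct.smul_tmul', smul_eq_mul, mul_one]
      rw [h4, map_smul]
      have h5 := hK ((σ.restrictScalars k).comp
        ((Ideal.Quotient.mkₐ k M).comp Algebra.TensorProduct.includeRight)) y
      rw [Algebra.smul_def]
      exact mul_mem ⟨x, rfl⟩ h5
  intro z
  obtain ⟨z, rfl⟩ := Ideal.Quotient.mk_surjective z
  obtain ⟨a, ha⟩ := h3 z
  exact ⟨a, σ.toRingHom.injective ((σ.commutes a).trans ha)⟩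

/-- A finite subextension containing the images of all embeddings of a finite algebra. -/
theorem exists_split (Λ : Type u) [CommRing Λ] [Algebra k Λ] [Module.Finite k Λ] :
    ∃ K₀ : IntermediateField k (AlgebraicClosure k), FiniteDimensional k K₀ ∧
      ∀ (f : Λ →ₐ[k] AlgebraicClosure k) (x : Λ), f x ∈ K₀ := by
  let b := Module.Free.chooseBasis k Λ
  let S : Set (AlgebraicClosure k) :=
    Set.range (fun p : (Λ →ₐ[k] AlgebraicClosure k) × Module.Free.ChooseBasisIndex k Λ => p.1 (b p.2))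
  have hS : S.Finite := Set.finite_range _
  have hS2 : ∀ x ∈ S, IsIntegral k x := fun x _ => Algebra.IsIntegral.isIntegral x
  refine ⟨IntermediateField.adjoin k S, ?_, fun f x => ?_⟩
  · have := hS.to_subtype
    exact IntermediateField.finiteDimensional_adjoin hS2
  · rw [← b.sum_repr x, map_sum]
    refine sum_mem fun i _ => ?_
    rw [map_smul]
    exact (IntermediateField.adjoin k S).smul_mem
      (IntermediateField.subset_adjoin k S ⟨(f, i), rfl⟩)

/-- After a finite extension all residue fields of a finite family of finite algebras are trivial. -/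
theorem exists_split_list {ι : Type w} (L : List ι) (Λ : ι → Type u) [∀ i, CommRing (Λ i)]
    [∀ i, Algebra k (Λ i)] [∀ i, Module.Finite k (Λ i)] :
    ∃ (K : Type u) (_ : Field K) (_ : Algebra k K) (_ : Module.Finite k K),
      ∀ i ∈ L, ∀ (M : Ideal (K ⊗[k] Λ i)) [M.IsMaximal],
          Function.Surjective (algebraMap K ((K ⊗[k] Λ i) ⧸ M)) := by
  suffices h : ∃ K₀ : IntermediateField k (AlgebraicClosure k), FiniteDimensional k K₀ ∧
      ∀ i ∈ L, ∀ (f : Λ i →ₐ[k] AlgebraicClosure k) (x : Λ i), f x ∈ K₀ by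
    obtain ⟨K, h1, h2⟩ := h
    exact ⟨K, inferInstance, inferInstance, h1, fun i hi M hM =>
      surjective_of_range (Λ i) K (fun f x => ⟨⟨_, h2 i hi f x⟩, rfl⟩) M⟩
  induction L with
  | nil => exact ⟨⊥, inferInstance, by simp⟩
  | cons i L ih =>
    obtain ⟨K₁, h1, h2⟩ := ih
    obtain ⟨K₂, h3, h4⟩ := exists_split (k := k) (Λ i)
    refine ⟨K₁ ⊔ K₂, IntermediateField.finiteDimensional_sup K₁ K₂, ?_⟩
    rw [List.forall_mem_cons]
    exact ⟨fun f x => (le_sup_right : K₂ ≤ K₁ ⊔ K₂) (h4 f x),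
      fun j hj f x => (le_sup_left : K₁ ≤ K₁ ⊔ K₂) (h2 j hj f x)⟩

end splitting

end Groth.Agent.Sga3.H817.FinTests
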