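import Groth.Agent.Sga3.H817.ArtTest
import Groth.Agent.Sga3.H817.CentRepProj
import Groth.Agent.Divis.ColonIdeal

/-!
# The kernel relation of `X ⟶ Hom(E, Y)` is realised by a separated scheme of finite type
-/

set_option autoImplicit false
universe u
open CategoryTheory MonoidalCategory CartesianMonoidalCategory AlgebraicGeometry Opposite Limits
open scoped TensorProduct

namespace Groth.Agent.Sga3.H817.HomMono

open Groth.Agent.Books.AffBridge Groth.Agent.Picfga.OverRep Groth.Agent.Sga3C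
  Groth.Agent.Sga3B.OverAff898 Groth.Agent.Sga3B.HomFun898 Groth.Agent.Sga3.H817.Jets
  Groth.Agent.Sga3.H817.ArtTest Groth.Agent.Sga3.H817.WeilProj Groth.Agent.Sga3.H817.CentRepProj

lemma projective_of_isField {R M : Type*} [CommRing R] (h : IsField R) [AddCommGroup M] [Module R M] :
    Module.Projective R M := by
  let F : Field R := h.toField
  have : Module.Free R M := inferInstance
  infer_instance

/-- Every scheme over a field has locally projective coordinate rings. -/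
lemma locProj_of_field {k : Type u} [Field k] {X : Scheme.{u}} (f : X ⟶ Spec (CommRingCat.of k)) :
    LocProj f := by
  intro s
  refine ⟨⊤, isAffineOpen_top _, trivial, fun x hx => ?_⟩
  obtain ⟨U, hU, hxU, -⟩ := exists_isAffineOpen_mem_and_subset (X := X) (x := x) (U := ⊤) trivial
  refine ⟨U, hU, le_top, hxU, ?_⟩
  let i1 : Algebra Γ(Spec (CommRingCat.of k), ⊤) Γ(X, U) := (f.appLE ⊤ U le_top).hom.toAlgebra
  exact projective_of_isField (MulEquiv.isField (Field.toIsField k)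
    (Scheme.ΓSpecIso (CommRingCat.of k)).commRingCatIsoToRingEquiv.toMulEquiv)

section closed

variable {S : Scheme.{u}}

/-- The condition that two morphisms `u, v : T ⟶ X` become equal in `Hom(Q, Y)` is closed. -/
theorem exists_agree_closed {Q X Y : Over S} (hQ : LocProj Q.hom) [IsSeparated Y.hom]
    (Φ : Q ⊗ X ⟶ Y) :
    ∃ (Z : Over S) (z : Z ⟶ X ⊗ X), IsClosedImmersion z.left ∧
      ∀ (T : Over S) (g : T ⟶ X ⊗ X), (∃ a : T ⟶ Z, a ≫ z = g) ↔
        (Q ◁ (g ≫ fst X X)) ≫ Φ = (Q ◁ (g ≫ snd X X)) ≫ Φ := by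
  let α : (X ⊗ X) ⊗ Q ⟶ Y := lift (snd _ _) (fst _ _ ≫ fst X X) ≫ Φ
  let β : (X ⊗ X) ⊗ Q ⟶ Y := lift (snd _ _) (fst _ _ ≫ snd X X) ≫ Φ
  obtain ⟨Z, z, hz, huniv, -⟩ := exists_closed (X ⊗ X) Q hQ (equalizer.ι α β)
  refine ⟨Z, z, hz, fun T g => ?_⟩
  rw [huniv]
  have hα : ∀ (T' : Over S) (x : T' ⟶ T) (h : T' ⟶ Q),
      lift (x ≫ g) h ≫ α = lift h (x ≫ g ≫ fst X X) ≫ Φ := by
    intro T' x h
    simp only [α, ← Category.assoc]
    congr 1
    apply CartesianMonoidalCategory.hom_ext <;> simp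
  have hβ : ∀ (T' : Over S) (x : T' ⟶ T) (h : T' ⟶ Q),
      lift (x ≫ g) h ≫ β = lift h (x ≫ g ≫ snd X X) ≫ Φ := by
    intro T' x h
    simp only [β, ← Category.assoc]
    congr 1
    apply CartesianMonoidalCategory.hom_ext <;> simp
  have hw : ∀ (T' : Over S) (x : T' ⟶ T) (h : T' ⟶ Q) (b : T ⟶ X),
      lift h (x ≫ b) ≫ Φ = lift h x ≫ (Q ◁ b) ≫ Φ := by
    intro T' x h b
    rw [← Category.assoc, lift_whiskerLeft]
  constructor
  · intro H
    obtain ⟨b, hb⟩ := H (Q ⊗ T) (snd _ _) (fst _ _)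
    have h1 : lift (snd Q T ≫ g) (fst Q T) ≫ α = lift (snd Q T ≫ g) (fst Q T) ≫ β := by
      rw [← hb, Category.assoc, Category.assoc, equalizer.condition]
    rw [hα, hβ, hw, hw] at h1
    simpa using h1
  · intro H T' x h
    have h1 : lift (x ≫ g) h ≫ α = lift (x ≫ g) h ≫ β := by
      rw [hα, hβ, hw, hw, H]
    exact ⟨equalizer.lift _ h1, equalizer.lift_ι _ _⟩

/-- Ideal sheaf form. -/
theorem exists_agree_ideal {Q X Y : Over S} (hQ : LocProj Q.hom) [IsSeparated Y.hom]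
    (Φ : Q ⊗ X ⟶ Y) :
    ∃ I : (X ⊗ X).left.IdealSheafData, ∀ (T : Over S) (g : T ⟶ X ⊗ X),
      I ≤ g.left.ker ↔ (Q ◁ (g ≫ fst X X)) ≫ Φ = (Q ◁ (g ≫ snd X X)) ≫ Φ := by
  obtain ⟨Z, z, hz, huniv⟩ := exists_agree_closed hQ Φ
  refine ⟨z.left.ker, fun T g => ?_⟩
  rw [← huniv]
  constructor
  · intro h
    refine ⟨Over.homMk (IsClosedImmersion.lift z.left g.left h) ?_, ?_⟩
    · rw [← Over.w z, ← Category.assoc, IsClosedImmersion.lift_fac, Over.w]
    · apply Over.OverMorphism.ext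
      exact IsClosedImmersion.lift_fac z.left g.left h
  · rintro ⟨a, rfl⟩
    rw [Over.comp_left]
    exact Scheme.Hom.le_ker_comp _ _

end closed

section main

variable {k : Type u} [Field k] {E X Y : Over (Spec (CommRingCat.of k))}

/-- The map `D ⊗ X ⟶ Y` attached to a test object. -/
noncomputable abbrev tmap (Φ : E ⊗ X ⟶ Y) (τ : Test E) : SpecOver k τ.Λ ⊗ X ⟶ Y := (τ.t ▷ X) ≫ Φ

lemma tmap_eq (Φ : E ⊗ X ⟶ Y) (τ : Test E) {T : Over (Spec (CommRingCat.of k))} (u : T ⟶ X) :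
    (SpecOver k τ.Λ ◁ u) ≫ tmap Φ τ = (τ.t ▷ T) ≫ (E ◁ u) ≫ Φ := by
  rw [whisker_exchange_assoc]

/-- Finitely many test objects suffice. -/
theorem exists_finite_tests [IsAlgClosed k] [LocallyOfFiniteType E.hom] [LocallyOfFiniteType X.hom]
    [QuasiCompact X.hom] [IsSeparated Y.hom] (Φ : E ⊗ X ⟶ Y) :
    ∃ L : List (Test E), ∀ (T : Over (Spec (CommRingCat.of k))) (u v : T ⟶ X),
      (∀ τ ∈ L, (SpecOver k τ.Λ ◁ u) ≫ tmap Φ τ = (SpecOver k τ.Λ ◁ v) ≫ tmap Φ τ) ↔
        (E ◁ u) ≫ Φ = (E ◁ v) ≫ Φ := by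
  have hN : AlgebraicGeometry.IsNoetherian (X ⊗ X).left := by
    have h1 : LocallyOfFiniteType (X ⊗ X).hom :=
      inferInstanceAs (LocallyOfFiniteType (pullback.fst X.hom X.hom ≫ X.hom))
    have h2 : QuasiCompact (X ⊗ X).hom :=
      inferInstanceAs (QuasiCompact (pullback.fst X.hom X.hom ≫ X.hom))
    have h3 : IsLocallyNoetherian (X ⊗ X).left := LocallyOfFiniteType.isLocallyNoetherian (X ⊗ X).hom
    have h4 : CompactSpace (X ⊗ X).left := QuasiCompact.compactSpace_of_compactSpace (X ⊗ X).hom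
    exact { }
  let P : (X ⊗ X).left.IdealSheafData → Prop := fun I => ∃ L : List (Test E),
    ∀ (T : Over (Spec (CommRingCat.of k))) (g : T ⟶ X ⊗ X), I ≤ g.left.ker ↔
      ∀ τ ∈ L, (SpecOver k τ.Λ ◁ (g ≫ fst X X)) ≫ tmap Φ τ =
        (SpecOver k τ.Λ ◁ (g ≫ snd X X)) ≫ tmap Φ τ
  have hwf : WellFoundedGT (X ⊗ X).left.IdealSheafData := Groth.Agent.Divis.ColonIdeal.wellFoundedGT
  obtain ⟨I, ⟨L, hL⟩, hmax⟩ := hwf.wf.has_min {I | P I} ⟨⊥, [], fun T g => by simp⟩
  have hle : ∀ (τ : Test E) (T : Over (Spec (CommRingCat.of k))) (g : T ⟶ X ⊗ X), I ≤ g.left.ker →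
      (SpecOver k τ.Λ ◁ (g ≫ fst X X)) ≫ tmap Φ τ = (SpecOver k τ.Λ ◁ (g ≫ snd X X)) ≫ tmap Φ τ := by
    intro τ T g hg
    obtain ⟨J, hJ⟩ := exists_agree_ideal (locProj_of_field (SpecOver k τ.Λ).hom) (tmap Φ τ)
    rw [← hJ]
    have h1 : ¬ I < I ⊔ J := by
      intro hlt
      refine hmax (I ⊔ J) ⟨τ :: L, fun T g => ?_⟩ hlt
      rw [sup_le_iff, hL, hJ, List.forall_mem_cons, and_comm]
    have h2 : I ⊔ J ≤ I := by
      by_contra h3
      exact h1 (lt_of_le_not_ge le_sup_left h3)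
    exact (le_sup_right.trans h2).trans hg
  let g₀ : Over.mk (I.subschemeι ≫ (X ⊗ X).hom) ⟶ X ⊗ X := Over.homMk I.subschemeι rfl
  have hg₀ : g₀.left.ker = I := I.ker_subschemeι
  have key : (E ◁ (g₀ ≫ fst X X)) ≫ Φ = (E ◁ (g₀ ≫ snd X X)) ≫ Φ := by
    apply eq_of_tests
    intro τ
    rw [← tmap_eq, ← tmap_eq]
    exact hle τ _ g₀ hg₀.ge
  refine ⟨L, fun T u v => ⟨fun h => ?_, fun h τ _ => ?_⟩⟩
  · have h1 : I ≤ (lift u v).left.ker := by
      rw [hL]
      simpa only [lift_fst, lift_snd] using h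
    have h2 : g₀.left.ker ≤ (lift u v).left.ker := hg₀.le.trans h1
    have hcl : IsClosedImmersion g₀.left := inferInstanceAs (IsClosedImmersion I.subschemeι)
    obtain ⟨a, ha⟩ : ∃ a : T ⟶ Over.mk (I.subschemeι ≫ (X ⊗ X).hom), a ≫ g₀ = lift u v := by
      refine ⟨Over.homMk (IsClosedImmersion.lift g₀.left (lift u v).left h2) ?_, ?_⟩
      · rw [← Over.w g₀, ← Category.assoc, IsClosedImmersion.lift_fac, Over.w]
      · apply Over.OverMorphism.ext
        exact IsClosedImmersion.lift_fac g₀.left (lift u v).left h2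
    have h3 : u = a ≫ g₀ ≫ fst X X := by rw [← Category.assoc, ha, lift_fst]
    have h4 : v = a ≫ g₀ ≫ snd X X := by rw [← Category.assoc, ha, lift_snd]
    rw [h3, h4, MonoidalCategory.whiskerLeft_comp, MonoidalCategory.whiskerLeft_comp E a,
      Category.assoc, Category.assoc, key]
  · rw [tmap_eq, tmap_eq, h]

/-- Over a locally Noetherian base finite type implies finite presentation. -/
theorem locallyOfFinitePresentation_of_noeth {Z S : Scheme.{u}} (f : Z ⟶ S)
    [IsLocallyNoetherian S] [LocallyOfFiniteType f] : LocallyOfFinitePresentation f := by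
  rw [HasRingHomProperty.iff_appLE (P := @LocallyOfFinitePresentation)]
  intro U V e
  have := IsLocallyNoetherian.component_noetherian U
  have h := f.finiteType_appLE U.2 V.2 e
  algebraize [(f.appLE U V e).hom]
  exact RingHom.finitePresentation_algebraMap.mpr (Algebra.FinitePresentation.of_finiteType.mp ‹_›)

/-- The relation given by a finite family of tests is realised by a separated scheme of finite type. -/
theorem exists_realize [LocallyOfFiniteType Y.hom] [QuasiCompact Y.hom] [IsSeparated Y.hom]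
    (Φ : E ⊗ X ⟶ Y) (L : List (Test E)) :
    ∃ (Z : Over (Spec (CommRingCat.of k))) (f : X ⟶ Z), LocallyOfFiniteType Z.hom ∧
      QuasiCompact Z.hom ∧ IsSeparated Z.hom ∧ ∀ (T : Over (Spec (CommRingCat.of k))) (u v : T ⟶ X),
        u ≫ f = v ≫ f ↔
          ∀ τ ∈ L, (SpecOver k τ.Λ ◁ u) ≫ tmap Φ τ = (SpecOver k τ.Λ ◁ v) ≫ tmap Φ τ := by
  induction L with
  | nil =>
    refine ⟨𝟙_ _, toUnit X, ?_, ?_, ?_, fun T u v => ?_⟩
    · exact inferInstanceAs (LocallyOfFiniteType (𝟙 _))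
    · exact inferInstanceAs (QuasiCompact (𝟙 _))
    · exact inferInstanceAs (IsSeparated (𝟙 _))
    · simp only [List.not_mem_nil, false_imp_iff, implies_true, iff_true]
      exact toUnit_unique _ _
  | cons τ L ih =>
    obtain ⟨Z, f, h1, h2, h3, hf⟩ := ih
    have hfp : LocallyOfFinitePresentation Y.hom := locallyOfFinitePresentation_of_noeth _
    obtain ⟨J, ev, huniv, hJ1, hJ2⟩ := exists_jets τ.ε τ.hε Y
    obtain ⟨g, hg, -⟩ := huniv X (tmap Φ τ)
    have hJhom : (sec τ.ε J ≫ ev).left ≫ Y.hom = J.hom := Over.w _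
    have hJsep : IsSeparated J.hom := by rw [← hJhom]; infer_instance
    have hJqc : QuasiCompact J.hom := by rw [← hJhom]; infer_instance
    refine ⟨J ⊗ Z, lift g f, ?_, ?_, ?_, fun T u v => ?_⟩
    · exact inferInstanceAs (LocallyOfFiniteType (pullback.fst J.hom Z.hom ≫ J.hom))
    · exact inferInstanceAs (QuasiCompact (pullback.fst J.hom Z.hom ≫ J.hom))
    · exact inferInstanceAs (IsSeparated (pullback.fst J.hom Z.hom ≫ J.hom))
    · rw [List.forall_mem_cons, ← hf, comp_lift, comp_lift]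
      have h4 : ∀ w : T ⟶ X, (SpecOver k τ.Λ ◁ (w ≫ g)) ≫ ev = (SpecOver k τ.Λ ◁ w) ≫ tmap Φ τ := by
        intro w
        rw [MonoidalCategory.whiskerLeft_comp, Category.assoc, hg]
      constructor
      · intro h
        have h5 := congrArg (fun m => m ≫ fst _ _) h
        have h6 := congrArg (fun m => m ≫ snd _ _) h
        simp only [lift_fst, lift_snd] at h5 h6
        exact ⟨by rw [← h4, ← h4, h5], h6⟩
      · rintro ⟨h5, h6⟩
        rw [h6]
        congr 1
        refine (huniv T ((SpecOver k τ.Λ ◁ v) ≫ tmap Φ τ)).unique ?_ (h4 v)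
        rw [h4, h5]

/-- **(B1a)** The kernel relation of `X ⟶ Hom(E, Y)` is realised by a morphism to a separated scheme of
finite type, over an algebraically closed field. -/
theorem exists_kernel_map [IsAlgClosed k] [LocallyOfFiniteType E.hom] [LocallyOfFiniteType X.hom]
    [QuasiCompact X.hom] [LocallyOfFiniteType Y.hom] [QuasiCompact Y.hom] [IsSeparated Y.hom]
    (Φ : E ⊗ X ⟶ Y) :
    ∃ (Z : Over (Spec (CommRingCat.of k))) (f : X ⟶ Z), LocallyOfFiniteType Z.hom ∧
      QuasiCompact Z.hom ∧ IsSeparated Z.hom ∧ ∀ (T : Over (Spec (CommRingCat.of k))) (u v : T ⟶ X),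
        u ≫ f = v ≫ f ↔ (E ◁ u) ≫ Φ = (E ◁ v) ≫ Φ := by
  obtain ⟨L, hL⟩ := exists_finite_tests Φ
  obtain ⟨Z, f, h1, h2, h3, hf⟩ := exists_realize Φ L
  exact ⟨Z, f, h1, h2, h3, fun T u v => (hf T u v).trans (hL T u v)⟩

end main

section group

open MonObj GrpObj

/-- Cancellation of a schematically dominant morphism for maps to a separated object. -/
theorem eq_of_dominant {S : Scheme.{u}} {A B Y : Over S} (f : A ⟶ B)
    [IsSchemeTheoreticallyDominant f.left] [IsSeparated Y.hom] (g h : B ⟶ Y) (e : f ≫ g = f ≫ h) :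
    g = h := by
  obtain ⟨l, hl⟩ := SchemImage.exists_lift_over f (𝟙 B) (equalizer.ι g h) (equalizer.lift f e)
    (by rw [equalizer.lift_ι, Category.comp_id])
  rw [← Category.id_comp g, ← Category.id_comp h, ← hl, Category.assoc, Category.assoc,
    equalizer.condition]

variable {k : Type u} [Field k]

lemma flat_hom (T : Over (Spec (CommRingCat.of k))) : Flat T.hom := inferInstance

theorem dominant_whiskerRight {A B : Over (Spec (CommRingCat.of k))} (f : A ⟶ B)
    [IsSchemeTheoreticallyDominant f.left] [QuasiCompact f.left] (T : Over (Spec (CommRingCat.of k))) :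
    IsSchemeTheoreticallyDominant (f ▷ T).left := by
  have : Flat (fst B T).left := by
    have := flat_hom T
    exact SchemImage.flat_fst B T
  exact IsSchemeTheoreticallyDominant.of_isPullback
    (SchemImage.isPullback_whiskerRight_left f T).flip

theorem dominant_whiskerLeft {A B : Over (Spec (CommRingCat.of k))} (f : A ⟶ B)
    [IsSchemeTheoreticallyDominant f.left] [QuasiCompact f.left] (T : Over (Spec (CommRingCat.of k))) :
    IsSchemeTheoreticallyDominant (T ◁ f).left := by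
  have : Flat (snd T B).left := by
    have := flat_hom T
    exact SchemImage.flat_snd T B
  exact IsSchemeTheoreticallyDominant.of_isPullback
    (SchemImage.isPullback_whiskerLeft_left f T).flip

/-- Equality in `Hom(X ⊗ X, X₀)` can be tested on points of `G`, if `G ⟶ X` is schematically
dominant. -/
theorem agree_iff {G X X₀ : Over (Spec (CommRingCat.of k))} (p : G ⟶ X)
    [IsSchemeTheoreticallyDominant p.left] [QuasiCompact p.left] [IsSeparated X₀.hom]
    (F : (X ⊗ X) ⊗ X ⟶ X₀) (T : Over (Spec (CommRingCat.of k))) (u v : T ⟶ X) :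
    ((X ⊗ X) ◁ u) ≫ F = ((X ⊗ X) ◁ v) ≫ F ↔
      ∀ (T' : Over (Spec (CommRingCat.of k))) (t : T' ⟶ T) (x y : T' ⟶ G),
        lift (lift (x ≫ p) (y ≫ p)) (t ≫ u) ≫ F = lift (lift (x ≫ p) (y ≫ p)) (t ≫ v) ≫ F := by
  have h0 : ∀ (T' : Over (Spec (CommRingCat.of k))) (t : T' ⟶ T) (x y : T' ⟶ G) (w : T ⟶ X),
      lift (lift (x ≫ p) (y ≫ p)) (t ≫ w) ≫ F =
        lift (lift (x ≫ p) (y ≫ p)) t ≫ ((X ⊗ X) ◁ w) ≫ F := by
    intro T' t x y w
    rw [← Category.assoc, lift_whiskerLeft]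
  constructor
  · intro h T' t x y
    rw [h0, h0, h]
  · intro h
    have d1 := dominant_whiskerRight p G
    have d2 := dominant_whiskerLeft p X
    have q1 := SchemImage.quasiCompact_whiskerRight p G
    have q2 := SchemImage.quasiCompact_whiskerLeft p X
    have d3 : IsSchemeTheoreticallyDominant ((p ▷ G) ≫ (X ◁ p)).left := by
      rw [Over.comp_left]; infer_instance
    have q3 : QuasiCompact ((p ▷ G) ≫ (X ◁ p)).left := by
      rw [Over.comp_left]; infer_instance
    have d4 := dominant_whiskerRight ((p ▷ G) ≫ (X ◁ p)) T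
    apply eq_of_dominant (((p ▷ G) ≫ (X ◁ p)) ▷ T)
    have h1 := h ((G ⊗ G) ⊗ T) (snd _ _) (fst _ _ ≫ fst _ _) (fst _ _ ≫ snd _ _)
    rw [h0, h0] at h1
    have h2 : lift (lift ((fst (G ⊗ G) T ≫ fst G G) ≫ p) ((fst (G ⊗ G) T ≫ snd G G) ≫ p))
        (snd (G ⊗ G) T) = ((p ▷ G) ≫ (X ◁ p)) ▷ T := by
      apply CartesianMonoidalCategory.hom_ext
      · apply CartesianMonoidalCategory.hom_ext <;> simp
      · simp
    rw [h2] at h1
    exact h1

/-- **(B1c)** Group form over an algebraically closed field. -/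
theorem exists_map_of_pairing [IsAlgClosed k] {G N X X₀ : Over (Spec (CommRingCat.of k))} [GrpObj G]
    (p₀ : G ⟶ X₀) (p : G ⟶ X) [IsSchemeTheoreticallyDominant p.left] [QuasiCompact p.left]
    [LocallyOfFiniteType X.hom] [QuasiCompact X.hom] [LocallyOfFiniteType X₀.hom]
    [QuasiCompact X₀.hom] [IsSeparated X₀.hom] (F : (X ⊗ X) ⊗ X ⟶ X₀)
    (hF : ∀ (T : Over (Spec (CommRingCat.of k))) (a b g : T ⟶ G),
      (a * g * b) ≫ p₀ = lift (lift (a ≫ p) (b ≫ p)) (g ≫ p) ≫ F) (n : N ⟶ G)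
    (hN : ∀ (T : Over (Spec (CommRingCat.of k))) (a : T ⟶ G), (∃ c : T ⟶ N, c ≫ n = a) ↔
      ∀ (T' : Over (Spec (CommRingCat.of k))) (t : T' ⟶ T) (x y : T' ⟶ G),
        (x * (t ≫ a) * y) ≫ p₀ = (x * y) ≫ p₀) :
    ∃ (Z : Over (Spec (CommRingCat.of k))) (f : G ⟶ Z), LocallyOfFiniteType Z.hom ∧
      QuasiCompact Z.hom ∧ IsSeparated Z.hom ∧ ∀ (T : Over (Spec (CommRingCat.of k))) (a b : T ⟶ G),
        a ≫ f = b ≫ f ↔ ∃ c : T ⟶ N, c ≫ n = a⁻¹ * b := by
  have hXX : LocallyOfFiniteType (X ⊗ X).hom :=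
    inferInstanceAs (LocallyOfFiniteType (pullback.fst X.hom X.hom ≫ X.hom))
  obtain ⟨Z, f, h1, h2, h3, hf⟩ := exists_kernel_map F
  refine ⟨Z, p ≫ f, h1, h2, h3, fun T a b => ?_⟩
  rw [← Category.assoc, ← Category.assoc, hf, agree_iff p, hN]
  refine forall_congr' fun T' => forall_congr' fun t => ?_
  constructor
  · intro h x y
    have h4 := h (x * (t ≫ a)⁻¹) y
    rw [← Category.assoc, ← Category.assoc, ← hF, ← hF] at h4
    rw [MonObj.comp_mul, GrpObj.comp_inv]
    simpa [_root_.mul_assoc] using h4.symm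
  · intro h x y
    have h4 := h (x * (t ≫ a)) y
    rw [MonObj.comp_mul, GrpObj.comp_inv] at h4
    rw [← Category.assoc, ← Category.assoc, ← hF, ← hF]
    simpa [_root_.mul_assoc] using h4.symm

end group

end Groth.Agent.Sga3.H817.HomMono
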