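import Groth.Agent.Sga3.H817.FinTests
import Groth.Agent.Sga3.H8.FpqcQuot

/-!
# The kernel relation of `X ⟶ Hom(E, Y)` over an arbitrary field, after a finite extension
-/

set_option autoImplicit false
universe w u
open CategoryTheory MonoidalCategory CartesianMonoidalCategory AlgebraicGeometry Opposite Limits
open scoped TensorProduct

namespace Groth.Agent.Sga3.H817.HomMonoFin

open Groth.Agent.Books.AffBridge Groth.Agent.Picfga.OverRep Groth.Agent.Sga3C
  Groth.Agent.Sga3B.OverAff898 Groth.Agent.Sga3B.HomFun898 Groth.Agent.Sga3.H817.Jets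
  Groth.Agent.Sga3.H817.ArtTest Groth.Agent.Sga3.H817.HomMono Groth.Agent.Sga3.H817.FinTests
  Groth.Agent.Sga3B.BcPts

section bc

variable {S S' : Scheme.{u}} (φ : S' ⟶ S)

/-- The base change of a pairing. -/
noncomputable def bcPair {D X Y : Over S} (Φ : D ⊗ X ⟶ Y) : Red.bc φ D ⊗ Red.bc φ X ⟶ Red.bc φ Y :=
  bcEquiv φ _ Y (lift ((bcEquiv φ _ D).symm (fst _ _)) ((bcEquiv φ _ X).symm (snd _ _)) ≫ Φ)

lemma lift_bcPair {D X Y : Over S} (Φ : D ⊗ X ⟶ Y) {T : Over S'} (d : T ⟶ Red.bc φ D)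
    (x : T ⟶ Red.bc φ X) :
    lift d x ≫ bcPair φ Φ = bcEquiv φ T Y (lift ((bcEquiv φ T D).symm d) ((bcEquiv φ T X).symm x) ≫ Φ) := by
  rw [bcPair, ← comp_bcEquiv, ← Category.assoc]
  congr 2
  apply CartesianMonoidalCategory.hom_ext
  · rw [Category.assoc, lift_fst, lift_fst, ← comp_bcEquiv_symm, lift_fst]
  · rw [Category.assoc, lift_snd, lift_snd, ← comp_bcEquiv_symm, lift_snd]

/-- Agreement for the base-changed pairing is agreement for the pairing. -/
theorem agree_bcPair {D X Y : Over S} (Φ : D ⊗ X ⟶ Y) {T : Over S'} (u v : T ⟶ Red.bc φ X) :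
    (Red.bc φ D ◁ u) ≫ bcPair φ Φ = (Red.bc φ D ◁ v) ≫ bcPair φ Φ ↔
      (D ◁ (bcEquiv φ T X).symm u) ≫ Φ = (D ◁ (bcEquiv φ T X).symm v) ≫ Φ := by
  have h0 : ∀ {T' : Over S'} (t : T' ⟶ T) (d : T' ⟶ Red.bc φ D) (u : T ⟶ Red.bc φ X),
      lift d (t ≫ u) ≫ bcPair φ Φ = bcEquiv φ T' Y
        (lift ((bcEquiv φ T' D).symm d) ((Over.map φ).map t) ≫ (D ◁ (bcEquiv φ T X).symm u) ≫ Φ) := by
    intro T' t d u
    rw [lift_bcPair, ← Category.assoc, lift_whiskerLeft, comp_bcEquiv_symm]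
  constructor
  · intro h
    let W : Over S' := Over.mk ((snd D ((Over.map φ).obj T)).left ≫ T.hom)
    let e : (Over.map φ).obj W ≅ D ⊗ (Over.map φ).obj T :=
      Over.isoMk (Iso.refl _) (by
        have := Over.w (snd D ((Over.map φ).obj T))
        simp only [Over.map_obj_hom, W, Over.mk_hom, Iso.refl_hom, Category.assoc] at this ⊢
        rw [this]
        exact Category.id_comp _)
    let w : W ⟶ T := Over.homMk (snd D ((Over.map φ).obj T)).left rfl
    have hw : (Over.map φ).map w = e.hom ≫ snd D ((Over.map φ).obj T) := by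
      ext1
      simp [w, e]
    have h1 : ∀ u : T ⟶ Red.bc φ X,
        lift (bcEquiv φ W D (e.hom ≫ fst D _)) w ≫ (Red.bc φ D ◁ u) ≫ bcPair φ Φ =
          bcEquiv φ W Y (e.hom ≫ (D ◁ (bcEquiv φ T X).symm u) ≫ Φ) := by
      intro u
      rw [lift_whiskerLeft_assoc, h0, Equiv.symm_apply_apply, hw]
      congr 1
      have h2 : lift (e.hom ≫ fst D _) (e.hom ≫ snd D _) = e.hom := by
        apply CartesianMonoidalCategory.hom_ext <;> simp
      rw [h2]
    have h2 := h1 u
    rw [h, h1 v] at h2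
    exact (cancel_epi e.hom).1 ((bcEquiv φ W Y).injective h2).symm
  · intro h
    have h1 : ∀ u : T ⟶ Red.bc φ X, (Red.bc φ D ◁ u) ≫ bcPair φ Φ =
        lift (fst _ _) (snd _ T ≫ u) ≫ bcPair φ Φ := by
      intro u
      congr 1
    rw [h1, h1, h0, h0, h]

end bc

section realize

variable {k : Type u} [Field k]

/-- Over a field `K`: if `D` is the spectrum of a finite algebra with trivial residue fields, the kernel
relation of `X ⟶ Hom(D, Y)` is realised by a separated scheme of finite type. -/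
theorem exists_kernel_map_of_surjective {A : Type u} [CommRing A] [Algebra k A]
    [Algebra.FiniteType k A]
    (hA : ∀ (m : Ideal A) [m.IsMaximal], Function.Surjective (algebraMap k (A ⧸ m)))
    {D X Y : Over (Spec (CommRingCat.of k))} (e : SpecOver k A ≅ D) [LocallyOfFiniteType X.hom]
    [QuasiCompact X.hom] [LocallyOfFiniteType Y.hom] [QuasiCompact Y.hom] [IsSeparated Y.hom]
    (Φ : D ⊗ X ⟶ Y) :
    ∃ (Z : Over (Spec (CommRingCat.of k))) (f : X ⟶ Z), LocallyOfFiniteType Z.hom ∧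
      QuasiCompact Z.hom ∧ IsSeparated Z.hom ∧ ∀ (T : Over (Spec (CommRingCat.of k))) (u v : T ⟶ X),
        u ≫ f = v ≫ f ↔ (D ◁ u) ≫ Φ = (D ◁ v) ≫ Φ := by
  obtain ⟨L, hL⟩ := exists_finite_family (fun τ : Test D => SpecOver k τ.Λ) (fun τ => τ.t)
    (fun T φ ψ h => eq_of_tests_of_surjective hA e φ ψ h) Φ
  obtain ⟨Z, f, h1, h2, h3, hf⟩ := exists_realize Φ L
  exact ⟨Z, f, h1, h2, h3, fun T u v => (hf T u v).trans (hL T u v)⟩

/-- Finite conjunctions of realised relations are realised. -/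
theorem exists_realize_list {X : Over (Spec (CommRingCat.of k))} {ι : Type w} (L : List ι)
    (P : ∀ (_ : ι) (T : Over (Spec (CommRingCat.of k))) (_ _ : T ⟶ X), Prop)
    (hP : ∀ i ∈ L, ∃ (Z : Over (Spec (CommRingCat.of k))) (f : X ⟶ Z), LocallyOfFiniteType Z.hom ∧
      QuasiCompact Z.hom ∧ IsSeparated Z.hom ∧ ∀ (T : Over (Spec (CommRingCat.of k))) (u v : T ⟶ X),
        u ≫ f = v ≫ f ↔ P i T u v) :
    ∃ (Z : Over (Spec (CommRingCat.of k))) (f : X ⟶ Z), LocallyOfFiniteType Z.hom ∧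
      QuasiCompact Z.hom ∧ IsSeparated Z.hom ∧ ∀ (T : Over (Spec (CommRingCat.of k))) (u v : T ⟶ X),
        u ≫ f = v ≫ f ↔ ∀ i ∈ L, P i T u v := by
  induction L with
  | nil =>
    refine ⟨𝟙_ _, toUnit X, ?_, ?_, ?_, fun T u v => ?_⟩
    · exact inferInstanceAs (LocallyOfFiniteType (𝟙 _))
    · exact inferInstanceAs (QuasiCompact (𝟙 _))
    · exact inferInstanceAs (IsSeparated (𝟙 _))
    · simp only [List.not_mem_nil, false_imp_iff, implies_true, iff_true]
      exact toUnit_unique _ _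
  | cons i L ih =>
    obtain ⟨Z, f, h1, h2, h3, hf⟩ := ih (fun j hj => hP j (List.mem_cons_of_mem _ hj))
    obtain ⟨Z', f', h1', h2', h3', hf'⟩ := hP i List.mem_cons_self
    refine ⟨Z' ⊗ Z, lift f' f, ?_, ?_, ?_, fun T u v => ?_⟩
    · exact inferInstanceAs (LocallyOfFiniteType (pullback.fst Z'.hom Z.hom ≫ Z'.hom))
    · exact inferInstanceAs (QuasiCompact (pullback.fst Z'.hom Z.hom ≫ Z'.hom))
    · exact inferInstanceAs (IsSeparated (pullback.fst Z'.hom Z.hom ≫ Z'.hom))
    · rw [List.forall_mem_cons, ← hf, ← hf', comp_lift, comp_lift]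
      constructor
      · intro h
        have h5 := congrArg (fun m => m ≫ fst _ _) h
        have h6 := congrArg (fun m => m ≫ snd _ _) h
        simp only [lift_fst, lift_snd] at h5 h6
        exact ⟨h5, h6⟩
      · rintro ⟨h5, h6⟩
        rw [h6, h5]

end realize

section main

variable (k K : Type u) [Field k] [Field K] [Algebra k K]

/-- The base change of `Spec Λ`. -/
noncomputable def bcSpecIso (Λ : Type u) [CommRing Λ] [Algebra k Λ] :
    Red.bc (Spec.map (CommRingCat.ofHom (algebraMap k K))) (SpecOver k Λ) ≅ SpecOver K (K ⊗[k] Λ) :=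
  Over.isoMk (pullbackSymmetry _ _ ≪≫ pullbackSpecIso k K Λ) (by
    have h1 := pullbackSpecIso_hom_fst' k K Λ
    refine (Category.assoc _ _ _).trans ?_
    have h2 : (pullbackSymmetry (SpecOver k Λ).hom (Spec.map (CommRingCat.ofHom (algebraMap k K)))).hom ≫
        pullback.fst _ _ = pullback.snd _ _ := pullbackSymmetry_hom_comp_fst _ _
    exact (congrArg (fun z => (pullbackSymmetry (SpecOver k Λ).hom
      (Spec.map (CommRingCat.ofHom (algebraMap k K)))).hom ≫ z) h1).trans h2)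

end main

section main

variable {k : Type u} [Field k]

/-- **(B1b)** The kernel relation of `X ⟶ Hom(E, Y)` over any field `k` is realised over a finite extension
`K` of `k` by a separated scheme of finite type. -/
theorem exists_kernel_map {E X Y : Over (Spec (CommRingCat.of k))} [LocallyOfFiniteType E.hom]
    [LocallyOfFiniteType X.hom] [QuasiCompact X.hom] [LocallyOfFiniteType Y.hom]
    [QuasiCompact Y.hom] [IsSeparated Y.hom] (Φ : E ⊗ X ⟶ Y) :
    ∃ (K : Type u) (_ : Field K) (_ : Algebra k K) (_ : Module.Finite k K)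
      (Z : Over (Spec (CommRingCat.of K)))
      (f : Red.bc (Spec.map (CommRingCat.ofHom (algebraMap k K))) X ⟶ Z), LocallyOfFiniteType Z.hom ∧
      QuasiCompact Z.hom ∧ IsSeparated Z.hom ∧ ∀ (T : Over (Spec (CommRingCat.of K)))
        (u v : T ⟶ Red.bc (Spec.map (CommRingCat.ofHom (algebraMap k K))) X),
        u ≫ f = v ≫ f ↔ (E ◁ (bcEquiv _ T X).symm u) ≫ Φ = (E ◁ (bcEquiv _ T X).symm v) ≫ Φ := by
  obtain ⟨L, hL⟩ := exists_finite_family (fun τ : FTest E => SpecOver k τ.Λ) (fun τ => τ.t)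
    (fun T φ ψ h => eq_of_ftests φ ψ h) Φ
  obtain ⟨K, _, _, hfin, hK⟩ := exists_split_list (k := k) L (fun τ => τ.Λ)
  let φ := Spec.map (CommRingCat.ofHom (algebraMap k K))
  have i1 : LocallyOfFiniteType (Red.bc φ X).hom :=
    inferInstanceAs (LocallyOfFiniteType (pullback.snd X.hom φ))
  have i2 : QuasiCompact (Red.bc φ X).hom := inferInstanceAs (QuasiCompact (pullback.snd X.hom φ))
  have i3 : LocallyOfFiniteType (Red.bc φ Y).hom :=
    inferInstanceAs (LocallyOfFiniteType (pullback.snd Y.hom φ))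
  have i4 : QuasiCompact (Red.bc φ Y).hom := inferInstanceAs (QuasiCompact (pullback.snd Y.hom φ))
  have i5 : IsSeparated (Red.bc φ Y).hom := inferInstanceAs (IsSeparated (pullback.snd Y.hom φ))
  obtain ⟨Z, f, h1, h2, h3, hf⟩ := exists_realize_list (X := Red.bc φ X) L
    (fun τ T u v => (Red.bc φ (SpecOver k τ.Λ) ◁ u) ≫ bcPair φ ((τ.t ▷ X) ≫ Φ) =
      (Red.bc φ (SpecOver k τ.Λ) ◁ v) ≫ bcPair φ ((τ.t ▷ X) ≫ Φ))
    (fun τ hτ => exists_kernel_map_of_surjective (A := K ⊗[k] τ.Λ) (hK τ hτ)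
      (bcSpecIso k K τ.Λ).symm (bcPair φ ((τ.t ▷ X) ≫ Φ)))
  refine ⟨K, _, _, hfin, Z, f, h1, h2, h3, fun T u v => ?_⟩
  rw [hf, ← hL]
  refine forall_congr' fun τ => forall_congr' fun hτ => ?_
  exact agree_bcPair φ ((τ.t ▷ X) ≫ Φ) u v

end main

section group

open MonObj GrpObj Groth.Agent.Sga3.H8.FpqcQuot

variable {k : Type u} [Field k]

/-- A morphism to a separated scheme of finite type factors through a schematically dominant one followed
by a closed immersion. -/
theorem exists_dominant {G Z : Over (Spec (CommRingCat.of k))} (f : G ⟶ Z)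
    [LocallyOfFiniteType Z.hom] [QuasiCompact Z.hom] [IsSeparated Z.hom] :
    ∃ (Z' : Over (Spec (CommRingCat.of k))) (f' : G ⟶ Z') (i : Z' ⟶ Z), f' ≫ i = f ∧
      IsClosedImmersion i.left ∧ IsSchemeTheoreticallyDominant f'.left ∧
      LocallyOfFiniteType Z'.hom ∧ QuasiCompact Z'.hom ∧ IsSeparated Z'.hom := by
  let i : Over.mk (f.left.imageι ≫ Z.hom) ⟶ Z := Over.homMk f.left.imageι rfl
  let f' : G ⟶ Over.mk (f.left.imageι ≫ Z.hom) := Over.homMk f.left.toImage (by simp)
  refine ⟨_, f', i, ?_, ?_, ?_, ?_, ?_, ?_⟩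
  · ext1
    exact Scheme.Hom.toImage_imageι f.left
  · exact inferInstanceAs (IsClosedImmersion f.left.imageι)
  · exact SchemImage.dominant_toImage f.left
  · exact inferInstanceAs (LocallyOfFiniteType (f.left.imageι ≫ Z.hom))
  · exact inferInstanceAs (QuasiCompact (f.left.imageι ≫ Z.hom))
  · exact inferInstanceAs (IsSeparated (f.left.imageι ≫ Z.hom))

/-- **(B1)** Final form, over any field.  From a pairing `F` as in the affine hull of Perrin's theorem one
gets, after a finite extension `K` of `k`, a schematically dominant morphism `f` from `G_K` to a separated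
scheme of finite type with `f a = f b` iff `a⁻¹ b ∈ N`. -/
theorem exists_map_of_pairing {G N X X₀ : Over (Spec (CommRingCat.of k))} [GrpObj G]
    (p₀ : G ⟶ X₀) (p : G ⟶ X) [IsSchemeTheoreticallyDominant p.left] [QuasiCompact p.left]
    [LocallyOfFiniteType X.hom] [QuasiCompact X.hom] [LocallyOfFiniteType X₀.hom]
    [QuasiCompact X₀.hom] [IsSeparated X₀.hom] (F : (X ⊗ X) ⊗ X ⟶ X₀)
    (hF : ∀ (T : Over (Spec (CommRingCat.of k))) (a b g : T ⟶ G),
      (a * g * b) ≫ p₀ = lift (lift (a ≫ p) (b ≫ p)) (g ≫ p) ≫ F) (n : N ⟶ G)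
    (hN : ∀ (T : Over (Spec (CommRingCat.of k))) (a : T ⟶ G), (∃ c : T ⟶ N, c ≫ n = a) ↔
      ∀ (T' : Over (Spec (CommRingCat.of k))) (t : T' ⟶ T) (x y : T' ⟶ G),
        (x * (t ≫ a) * y) ≫ p₀ = (x * y) ≫ p₀) :
    ∃ (K : Type u) (_ : Field K) (_ : Algebra k K) (_ : Module.Finite k K)
      (Z : Over (Spec (CommRingCat.of K)))
      (f : Red.bc (Spec.map (CommRingCat.ofHom (algebraMap k K))) G ⟶ Z),
      LocallyOfFiniteType Z.hom ∧ QuasiCompact Z.hom ∧ IsSeparated Z.hom ∧
      IsSchemeTheoreticallyDominant f.left ∧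
      KerRel ((Over.pullback (Spec.map (CommRingCat.ofHom (algebraMap k K)))).map n) f := by
  have hXX : LocallyOfFiniteType (X ⊗ X).hom :=
    inferInstanceAs (LocallyOfFiniteType (pullback.fst X.hom X.hom ≫ X.hom))
  obtain ⟨K, _, _, hfin, Z, f, h1, h2, h3, hf⟩ := exists_kernel_map F
  obtain ⟨Z', f', i, hi, h4, h5, h6, h7, h8⟩ := exists_dominant
    ((Over.pullback (Spec.map (CommRingCat.ofHom (algebraMap k K)))).map p ≫ f)
  refine ⟨K, _, _, hfin, Z', f', h6, h7, h8, h5, ?_⟩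
  have h9 : Mono i := by
    have : Mono i.left := inferInstance
    exact Over.mono_of_mono_left i
  apply KerRel.of_comp_mono i
  rw [hi]
  intro T a b
  obtain ⟨a, rfl⟩ := (bcEquiv _ T G).surjective a
  obtain ⟨b, rfl⟩ := (bcEquiv _ T G).surjective b
  rw [← Category.assoc, ← Category.assoc, hf, ← bcEquiv_comp, ← bcEquiv_comp,
    Equiv.symm_apply_apply, Equiv.symm_apply_apply, agree_iff p]
  have h10 : (∃ c : T ⟶ Red.bc (Spec.map (CommRingCat.ofHom (algebraMap k K))) N,
      (bcEquiv _ T G a)⁻¹ * bcEquiv _ T G b =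
        c ≫ (Over.pullback (Spec.map (CommRingCat.ofHom (algebraMap k K)))).map n) ↔
      ∃ c : (Over.map (Spec.map (CommRingCat.ofHom (algebraMap k K)))).obj T ⟶ N,
        c ≫ n = a⁻¹ * b := by
    have h11 : (bcEquiv _ T G a)⁻¹ * bcEquiv _ T G b =
        bcEquiv (Spec.map (CommRingCat.ofHom (algebraMap k K))) T G (a⁻¹ * b) := by
      rw [bcEquiv_mul]
      congr 1
      exact ((bcMulEquiv _ T G).map_inv a).symm
    rw [h11]
    constructor
    · rintro ⟨c, hc⟩
      obtain ⟨c, rfl⟩ := (bcEquiv _ T N).surjective c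
      rw [← bcEquiv_comp] at hc
      exact ⟨c, ((bcEquiv _ T G).injective hc).symm⟩
    · rintro ⟨c, hc⟩
      exact ⟨bcEquiv _ T N c, by rw [← bcEquiv_comp, hc]⟩
  rw [h10, hN]
  refine forall_congr' fun T' => forall_congr' fun t => ?_
  constructor
  · intro h x y
    have h4 := h (x * (t ≫ a)⁻¹) y
    rw [← Category.assoc, ← Category.assoc, ← hF, ← hF] at h4
    rw [MonObj.comp_mul, GrpObj.comp_inv]
    simpa [_root_.mul_assoc] using h4.symm
  · intro h x y
    have h4 := h (x * (t ≫ a)) y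
    rw [MonObj.comp_mul, GrpObj.comp_inv] at h4
    rw [← Category.assoc, ← Category.assoc, ← hF, ← hF]
    simpa [_root_.mul_assoc] using h4.symm

end group

end Groth.Agent.Sga3.H817.HomMonoFin
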