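import Groth.Agent.Sga3B.OverAff898
import Groth.Agent.Sga3B.HomFun898
import Groth.Agent.Sga3B.Hens.WeilRes

/-!
# Weil restriction along a one-point finite free scheme (jet schemes)
-/

set_option autoImplicit false
universe u
open CategoryTheory MonoidalCategory CartesianMonoidalCategory AlgebraicGeometry Opposite Limits
open scoped TensorProduct

namespace Groth.Agent.Sga3.H817.Jets

open Groth.Agent.Books.AffBridge Groth.Agent.Picfga.OverRep Groth.Agent.Sga3C
  Groth.Agent.Sga3B.OverAff898 Groth.Agent.Sga3B.HomFun898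

section mapFun

variable {S : Scheme.{u}} (D Y : Over S)

/-- The presheaf `T ↦ Hom(D ⊗ T, Y)`. -/
noncomputable def mapFun : (Over S)ᵒᵖ ⥤ Type u where
  obj T := {_φ : D ⊗ T.unop ⟶ Y // True}
  map g := ↾(fun φ => ⟨(D ◁ g.unop) ≫ φ.1, trivial⟩)
  map_id T := by
    apply ConcreteCategory.hom_ext
    intro φ
    apply Subtype.ext
    simp
  map_comp a b := by
    apply ConcreteCategory.hom_ext
    intro φ
    apply Subtype.ext
    simp

variable {D Y}

lemma mapFun_map_val {T T' : Over S} (g : T' ⟶ T) (φ : (mapFun D Y).obj (op T)) :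
    ((mapFun D Y).map g.op φ).1 = (D ◁ g) ≫ φ.1 := rfl

theorem isZarSheaf_mapFun : IsZarSheaf (mapFun D Y) := by
  intro T 𝒰 x hx
  have h4 : ∀ (W : Over S) (l : 𝒰.ι) (c : W ⟶ D ⊗ 𝒰.V l),
      lift (c ≫ fst _ _) (𝟙 W) ≫ (D ◁ (c ≫ snd _ _)) = c := by
    intro W l c
    rw [lift_whiskerLeft, Category.id_comp]
    apply CartesianMonoidalCategory.hom_ext <;> simp
  have compat : ∀ (i k : 𝒰.ι) (W : Over S) (a : W ⟶ D ⊗ 𝒰.V i) (b : W ⟶ D ⊗ 𝒰.V k),
      a ≫ (D ◁ 𝒰.j i) = b ≫ (D ◁ 𝒰.j k) → a ≫ (x i).1 = b ≫ (x k).1 := by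
    intro i k W a b hab
    have h1 : (a ≫ snd D (𝒰.V i)) ≫ 𝒰.j i = (b ≫ snd D (𝒰.V k)) ≫ 𝒰.j k := by
      have := congrArg (fun f => f ≫ snd D T) hab
      simpa using this
    have h2 := congrArg Subtype.val (hx i k W _ _ h1)
    rw [mapFun_map_val, mapFun_map_val] at h2
    have h3 : a ≫ fst D (𝒰.V i) = b ≫ fst D (𝒰.V k) := by
      have := congrArg (fun f => f ≫ fst D T) hab
      simpa using this
    have h5 := congrArg (fun f => lift (a ≫ fst _ _) (𝟙 W) ≫ f) h2
    simp only [← Category.assoc] at h5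
    rw [h4, h3, h4] at h5
    exact h5
  obtain ⟨φ, hφ⟩ := glue_hom (D ⊗ T) Y (covProd D 𝒰) (fun i => (x i).1) compat
  refine ⟨⟨φ, trivial⟩, fun i => Subtype.ext (hφ i), ?_⟩
  intro y hy
  apply Subtype.ext
  apply hom_ext_cover (D ⊗ T) Y (covProd D 𝒰)
  intro i
  exact (congrArg Subtype.val (hy i)).trans (hφ i).symm

end mapFun

section prod

variable {k : Type u} [CommRing k]

/-- `Spec (B ⊗ Λ) ⟶ Spec Λ ⊗ Spec B`. -/
noncomputable def prodHom (Λ B : Type u) [CommRing Λ] [Algebra k Λ] [CommRing B] [Algebra k B] :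
    SpecOver k (B ⊗[k] Λ) ⟶ SpecOver k Λ ⊗ SpecOver k B :=
  lift (specMap k Algebra.TensorProduct.includeRight) (specMap k Algebra.TensorProduct.includeLeft)

variable (Λ B : Type u) [CommRing Λ] [Algebra k Λ] [CommRing B] [Algebra k B]

instance : IsIso (prodHom (k := k) Λ B) := by
  have w : Spec.map (CommRingCat.ofHom (Algebra.TensorProduct.includeRight (R := k) (A := B) (B := Λ)).toRingHom) ≫
      Spec.map (CommRingCat.ofHom (algebraMap k Λ)) =
      Spec.map (CommRingCat.ofHom (Algebra.TensorProduct.includeLeft (R := k) (S := k) (A := B) (B := Λ)).toRingHom) ≫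
      Spec.map (CommRingCat.ofHom (algebraMap k B)) := by
    rw [← Spec.map_comp, ← Spec.map_comp, ← CommRingCat.ofHom_comp, ← CommRingCat.ofHom_comp]
    congr 2
    ext x
    simp
  have key : pullback.lift _ _ w = (pullbackSpecIso k B Λ).inv ≫ (pullbackSymmetry _ _).hom := by
    apply pullback.hom_ext
    · rw [pullback.lift_fst, Category.assoc, pullbackSymmetry_hom_comp_fst, pullbackSpecIso_inv_snd]
      rfl
    · rw [pullback.lift_snd, Category.assoc, pullbackSymmetry_hom_comp_snd, pullbackSpecIso_inv_fst]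
      rfl
  have : IsIso ((Over.forget _).map (prodHom (k := k) Λ B)) := by
    change IsIso (pullback.lift _ _ w)
    rw [key]
    infer_instance
  exact isIso_of_reflects_iso _ (Over.forget _)

variable {B} in
lemma prodHom_naturality {P : Type u} [CommRing P] [Algebra k P] (φ : P →ₐ[k] B) :
    specMap k (Algebra.TensorProduct.map φ (AlgHom.id k Λ)) ≫ prodHom Λ P =
      prodHom Λ B ≫ (SpecOver k Λ ◁ specMap k φ) := by
  apply CartesianMonoidalCategory.hom_ext
  · simp only [prodHom, Category.assoc, lift_fst, whiskerLeft_fst]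
    rw [← specMap_comp]
    congr 1
    ext x
    simp
  · simp only [prodHom, Category.assoc, lift_snd, whiskerLeft_snd, lift_snd_assoc]
    rw [← specMap_comp, ← specMap_comp]
    congr 1

end prod

section chart

variable {k : Type u} [CommRing k] (Λ : Type u) [CommRing Λ] [Algebra k Λ] [Module.Finite k Λ]
  [Module.Free k Λ]

/-- Weil restriction of an affine open of `Y`. -/
theorem exists_chart {Y : Over (Spec (CommRingCat.of k))} [LocallyOfFinitePresentation Y.hom]
    {U : Y.left.Opens} (hU : IsAffineOpen U) :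
    ∃ (P : Type u) (_ : CommRing P) (_ : Algebra k P) (_ : Algebra.FinitePresentation k P)
      (ξ : SpecOver k Λ ⊗ SpecOver k P ⟶ Y), Set.range ξ.left ⊆ U ∧
      ∀ (B : Type u) [CommRing B] [Algebra k B] (y : SpecOver k Λ ⊗ SpecOver k B ⟶ Y),
        Set.range y.left ⊆ U → ∃! φ : P →ₐ[k] B, (SpecOver k Λ ◁ specMap k φ) ≫ ξ = y := by
  obtain ⟨_, j, hj⟩ := exists_over (A := Γ(Y.left, U)) Y hU.fromSpec
  have hjo : IsOpenImmersion j.left := by
    rw [hj]; exact hU.isOpenImmersion_fromSpec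
  have hjm : Mono j := Over.mono_of_mono_left j
  have hjr : Set.range j.left = U := by
    rw [hj]; exact hU.range_fromSpec
  have hfp : Algebra.FinitePresentation k Γ(Y.left, U) := by
    have h1 : LocallyOfFinitePresentation (j.left ≫ Y.hom) := inferInstance
    rw [Over.w j] at h1
    exact RingHom.finitePresentation_algebraMap.1
      ((HasRingHomProperty.Spec_iff (P := @LocallyOfFinitePresentation)).1 h1)
  obtain ⟨P, _, _, hP, π, hπ⟩ := Groth.Agent.Sga3B.Hens.WeilRes.exists_weil k Λ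
    (ι := PUnit.{u + 1}) (fun _ => Γ(Y.left, U))
  let ξ : SpecOver k Λ ⊗ SpecOver k P ⟶ Y := inv (prodHom Λ P) ≫ specMap k (π ⟨⟩) ≫ j
  have key : ∀ (B : Type u) [CommRing B] [Algebra k B] (φ : P →ₐ[k] B),
      prodHom Λ B ≫ (SpecOver k Λ ◁ specMap k φ) ≫ ξ =
        specMap k ((Algebra.TensorProduct.map φ (AlgHom.id k Λ)).comp (π ⟨⟩)) ≫ j := by
    intro B _ _ φ
    rw [← Category.assoc, ← prodHom_naturality, Category.assoc, IsIso.hom_inv_id_assoc, specMap_comp,
      Category.assoc]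
  refine ⟨P, inferInstance, inferInstance, hP, ξ, ?_, ?_⟩
  · rw [← hjr]
    rintro _ ⟨z, rfl⟩
    exact ⟨_, rfl⟩
  · intro B _ _ y hy
    obtain ⟨y', hy'⟩ := exists_lift j (prodHom Λ B ≫ y) (by
      rw [hjr]
      rintro _ ⟨z, rfl⟩
      exact hy ⟨_, rfl⟩)
    obtain ⟨φ, hφ, huniq⟩ := hπ B (fun _ => specPreimage k y')
    refine ⟨φ, ?_, ?_⟩
    · show (SpecOver k Λ ◁ specMap k φ) ≫ ξ = y
      rw [← cancel_epi (prodHom Λ B), key, hφ ⟨⟩, specMap_specPreimage, hy']
    · intro ψ hψ
      replace hψ : (SpecOver k Λ ◁ specMap k ψ) ≫ ξ = y := hψ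
      apply huniq
      intro i
      apply specMap_injective k
      rw [specMap_specPreimage, ← cancel_mono j, hy', ← hψ, key]

end chart

section point

variable {k : Type u} [CommRing k] {Λ : Type u} [CommRing Λ] [Algebra k Λ] (ε : Λ →ₐ[k] k)

/-- The point of `Spec Λ` given by an augmentation. -/
noncomputable def pt : 𝟙_ (Over (Spec (CommRingCat.of k))) ⟶ SpecOver k Λ :=
  Over.homMk (Spec.map (CommRingCat.ofHom ε.toRingHom)) (by
    change Spec.map _ ≫ Spec.map _ = 𝟙 _
    rw [← Spec.map_comp, ← CommRingCat.ofHom_comp]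
    have : ε.toRingHom.comp (algebraMap k Λ) = RingHom.id k := by
      ext x
      exact ε.commutes x
    rw [this]
    exact Spec.map_id _)

/-- The section `T ⟶ Spec Λ ⊗ T`. -/
noncomputable def sec (T : Over (Spec (CommRingCat.of k))) : T ⟶ SpecOver k Λ ⊗ T :=
  lift (toUnit T ≫ pt ε) (𝟙 T)

lemma sec_naturality {T T' : Over (Spec (CommRingCat.of k))} (g : T' ⟶ T) :
    sec ε T' ≫ (SpecOver k Λ ◁ g) = g ≫ sec ε T := by
  apply CartesianMonoidalCategory.hom_ext <;> simp [sec]

lemma isPullback_sec (T : Over (Spec (CommRingCat.of k))) :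
    IsPullback (sec ε T) (toUnit T) (fst (SpecOver k Λ) T) (pt ε) where
  w := by simp [sec]
  isLimit' := ⟨PullbackCone.IsLimit.mk _ (fun c ↦ c.fst ≫ snd (SpecOver k Λ) T)
    (fun c ↦ by
      have := c.condition
      apply CartesianMonoidalCategory.hom_ext
      · have h : c.snd = toUnit _ := toUnit_unique _ _
        rw [h] at this
        simp [sec, this, ← Category.assoc]
      · simp [sec])
    (fun c ↦ toUnit_unique _ _)
    (fun c m h1 h2 ↦ by
      rw [← h1]
      simp [sec])⟩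

lemma surjective_pt (hε : ∀ x, ε x = 0 → IsNilpotent x) : Surjective (pt ε).left := by
  constructor
  change Function.Surjective (PrimeSpectrum.comap ε.toRingHom)
  intro p
  have hsurj : Function.Surjective ε.toRingHom := fun a => ⟨algebraMap k Λ a, ε.commutes a⟩
  have hle : RingHom.ker ε.toRingHom ≤ p.asIdeal := by
    intro x hx
    obtain ⟨n, hn⟩ := hε x hx
    exact p.2.mem_of_pow_mem n (hn ▸ p.asIdeal.zero_mem)
  have h2 := range_comap_of_surjective _ ε.toRingHom hsurj
  have h3 : p ∈ PrimeSpectrum.zeroLocus (RingHom.ker ε.toRingHom : Set Λ) := hle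
  rw [← h2] at h3
  exact h3

lemma surjective_sec (hε : ∀ x, ε x = 0 → IsNilpotent x) (T : Over (Spec (CommRingCat.of k))) :
    Surjective (sec ε T).left :=
  MorphismProperty.of_isPullback ((isPullback_sec ε T).map (Over.forget _)).flip
    (surjective_pt ε hε)

end point

section jets

variable {k : Type u} [CommRing k] {Λ : Type u} [CommRing Λ] [Algebra k Λ] (ε : Λ →ₐ[k] k)

/-- A family is given by the chart of `U` near a point whose truncation is in `U`. -/
lemma exists_nhd (hε : ∀ x, ε x = 0 → IsNilpotent x) {Y : Over (Spec (CommRingCat.of k))}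
    {U : Y.left.Opens} {P : Type u} [CommRing P] [Algebra k P]
    (ξ : SpecOver k Λ ⊗ SpecOver k P ⟶ Y)
    (hξ : ∀ (B : Type u) [CommRing B] [Algebra k B] (y : SpecOver k Λ ⊗ SpecOver k B ⟶ Y),
        Set.range y.left ⊆ U → ∃! φ : P →ₐ[k] B, (SpecOver k Λ ◁ specMap k φ) ≫ ξ = y)
    (T : Over (Spec (CommRingCat.of k))) (x : SpecOver k Λ ⊗ T ⟶ Y) (t : T.left)
    (ht : (sec ε T ≫ x).left t ∈ U) :
    ∃ (V : T.left.Opens) (g : Over.mk (V.ι ≫ T.hom) ⟶ SpecOver k P),
      t ∈ V ∧ (SpecOver k Λ ◁ g) ≫ ξ = (SpecOver k Λ ◁ res T V) ≫ x := by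
  let V' : T.left.Opens := (sec ε T ≫ x).left ⁻¹ᵁ U
  obtain ⟨B, _, _, j, hj, y, hy⟩ := exists_affine_nhd (Over.mk (V'.ι ≫ T.hom)) ⟨t, ht⟩
  have hjo : IsOpenImmersion (j ≫ res T V').left := by
    have h1 : IsOpenImmersion (res T V').left := inferInstanceAs (IsOpenImmersion V'.ι)
    rw [Over.comp_left]
    infer_instance
  have hr : Set.range ((SpecOver k Λ ◁ (j ≫ res T V')) ≫ x).left ⊆ U := by
    rintro _ ⟨z, rfl⟩
    obtain ⟨w, rfl⟩ := (surjective_sec ε hε (SpecOver k B)).surj z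
    have e : sec ε (SpecOver k B) ≫ (SpecOver k Λ ◁ (j ≫ res T V')) ≫ x =
        j ≫ res T V' ≫ sec ε T ≫ x := by
      rw [← Category.assoc, sec_naturality]
      simp only [Category.assoc]
    have e2 : ((SpecOver k Λ ◁ (j ≫ res T V')) ≫ x).left ((sec ε (SpecOver k B)).left w) =
        (sec ε T ≫ x).left ((res T V').left (j.left w)) := by
      have := congrArg (fun f => f.left w) e
      simpa only [Over.comp_left, Scheme.Hom.comp_apply] using this
    rw [e2]
    exact (j.left w).2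
  obtain ⟨φ, hφ, -⟩ := hξ B _ hr
  obtain ⟨V, g, hV, hg⟩ := exists_chart_of_immersion (G := mapFun (SpecOver k Λ) Y)
    (X := SpecOver k P) ⟨ξ, trivial⟩ (T := T) (V := SpecOver k B) ⟨x, trivial⟩ (j ≫ res T V') (t := t)
    ⟨y, by rw [Over.comp_left, Scheme.Hom.comp_apply, hy]; rfl⟩ (specMap k φ) (Subtype.ext hφ)
  exact ⟨V, g, hV, congrArg Subtype.val hg⟩

variable [Module.Finite k Λ] [Module.Free k Λ]

/-- **Jet schemes**: the Weil restriction of `Y` along a finite free local scheme with one rational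
point exists, and it is affine over `Y`. -/
theorem exists_jets (hε : ∀ x, ε x = 0 → IsNilpotent x) (Y : Over (Spec (CommRingCat.of k)))
    [LocallyOfFinitePresentation Y.hom] :
    ∃ (J : Over (Spec (CommRingCat.of k))) (ev : SpecOver k Λ ⊗ J ⟶ Y),
      (∀ (T : Over (Spec (CommRingCat.of k))) (φ : SpecOver k Λ ⊗ T ⟶ Y),
        ∃! g : T ⟶ J, (SpecOver k Λ ◁ g) ≫ ev = φ) ∧
      LocallyOfFinitePresentation J.hom ∧ IsAffineHom (sec ε J ≫ ev).left := by
  let ι := {U : Y.left.Opens // IsAffineOpen U}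
  choose P hP1 hP2 hP3 ξ hξr hξ using fun i : ι => exists_chart (k := k) Λ (Y := Y) i.2
  let C : Charts (mapFun (SpecOver k Λ) Y) :=
    { ι := ι
      X := fun i => SpecOver k (P i)
      ξ := fun i => ⟨ξ i, trivial⟩
      mono := by
        intro i T a b hab
        apply hom_ext_of_covers
        intro t
        obtain ⟨B, _, _, j, hj, ht⟩ := exists_affine_nhd T t
        refine ⟨_, j, hj, ht, ?_⟩
        have h1 : (SpecOver k Λ ◁ a) ≫ ξ i = (SpecOver k Λ ◁ b) ≫ ξ i := congrArg Subtype.val hab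
        obtain ⟨φ, hφ, huniq⟩ := hξ i B ((SpecOver k Λ ◁ (j ≫ a)) ≫ ξ i) (by
          rintro _ ⟨z, rfl⟩
          exact hξr i ⟨_, rfl⟩)
        have h2 := huniq (specPreimage k (j ≫ a)) (by
          show (SpecOver k Λ ◁ specMap k _) ≫ ξ i = _
          rw [specMap_specPreimage])
        have h3 := huniq (specPreimage k (j ≫ b)) (by
          show (SpecOver k Λ ◁ specMap k _) ≫ ξ i = _
          rw [specMap_specPreimage, MonoidalCategory.whiskerLeft_comp, MonoidalCategory.whiskerLeft_comp,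
            Category.assoc, Category.assoc, h1])
        rw [← specMap_specPreimage k (j ≫ a), ← specMap_specPreimage k (j ≫ b), h2, h3]
      isOpen := by
        intro i T x T' g h hgh t
        have h1 : (SpecOver k Λ ◁ h) ≫ ξ i = (SpecOver k Λ ◁ g) ≫ x.1 := congrArg Subtype.val hgh
        obtain ⟨V, g', hV, hg'⟩ := exists_nhd ε hε (ξ i) (fun B _ _ => hξ i B) T x.1 (g.left t) (by
          have e : g ≫ sec ε T ≫ x.1 = sec ε T' ≫ (SpecOver k Λ ◁ h) ≫ ξ i := by
            rw [h1, ← Category.assoc, ← sec_naturality, Category.assoc]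
          have e2 : (sec ε T ≫ x.1).left (g.left t) =
              (ξ i).left ((sec ε T' ≫ (SpecOver k Λ ◁ h)).left t) := by
            have := congrArg (fun f => f.left t) e
            simpa only [Over.comp_left, Scheme.Hom.comp_apply] using this
          rw [e2]
          exact hξr i ⟨_, rfl⟩)
        exact ⟨V, g', hV, Subtype.ext hg'⟩
      covers := by
        intro T x t
        obtain ⟨U, hU, ht, -⟩ := exists_isAffineOpen_mem_and_subset (X := Y.left)
          (x := (sec ε T ≫ x.1).left t) (U := ⊤) trivial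
        obtain ⟨V, g', hV, hg'⟩ := exists_nhd ε hε (ξ ⟨U, hU⟩) (fun B _ _ => hξ ⟨U, hU⟩ B) T x.1 t ht
        exact ⟨⟨U, hU⟩, V, g', hV, Subtype.ext hg'⟩ }
  obtain ⟨J, Z, j, huniv, hjo, hjZ, hjcov⟩ := C.exists_universal' isZarSheaf_mapFun
  have hu : ∀ (T : Over (Spec (CommRingCat.of k))) (φ : SpecOver k Λ ⊗ T ⟶ Y),
        ∃! g : T ⟶ J, (SpecOver k Λ ◁ g) ≫ Z.1 = φ := by
    intro T φ
    obtain ⟨g, hg, huniq⟩ := huniv T ⟨φ, trivial⟩
    exact ⟨g, congrArg Subtype.val hg, fun g' hg' => huniq g' (Subtype.ext hg')⟩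
  refine ⟨J, Z.1, hu, ?_, ?_⟩
  · let 𝒰 : Cov J :=
      { ι := ι
        V := C.X
        j := j
        isOpen := hjo
        covers := hjcov }
    have : IsZariskiLocalAtSource @LocallyOfFinitePresentation :=
      HasRingHomProperty.instIsZariskiLocalAtSource (Q := RingHom.FinitePresentation)
    rw [IsZariskiLocalAtSource.iff_of_openCover (P := @LocallyOfFinitePresentation) 𝒰.openCover]
    refine fun (i : ι) => ?_
    have h1 : 𝒰.openCover.f i ≫ J.hom = (SpecOver k (P i)).hom := Over.w (j i)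
    rw [h1]
    exact (HasRingHomProperty.Spec_iff (P := @LocallyOfFinitePresentation)).2
      (RingHom.finitePresentation_algebraMap.2 (hP3 i))
  · apply isAffineHom_of_forall_exists_isAffineOpen
    intro y
    obtain ⟨U, hU, hy, -⟩ := exists_isAffineOpen_mem_and_subset (X := Y.left) (x := y) (U := ⊤) trivial
    refine ⟨U, hy, hU, ?_⟩
    have hj := hjo ⟨U, hU⟩
    have hopen : (sec ε J ≫ Z.1).left ⁻¹ᵁ U = (j ⟨U, hU⟩).left.opensRange := by
      ext h
      constructor
      · intro hh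
        obtain ⟨V, g', hV, hg'⟩ := exists_nhd ε hε (ξ ⟨U, hU⟩) (fun B _ _ => hξ ⟨U, hU⟩ B) J Z.1 h hh
        have h1 : g' ≫ j ⟨U, hU⟩ = res J V := by
          refine (hu _ ((SpecOver k Λ ◁ res J V) ≫ Z.1)).unique ?_ rfl
          rw [MonoidalCategory.whiskerLeft_comp, Category.assoc, ← hg']
          congr 1
          exact congrArg Subtype.val (hjZ ⟨U, hU⟩)
        have h2 := congrArg (fun f => f.left ⟨h, hV⟩) h1
        simp only [Over.comp_left] at h2
        exact ⟨_, h2⟩
      · rintro ⟨z, rfl⟩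
        have h1 : (SpecOver k Λ ◁ j ⟨U, hU⟩) ≫ Z.1 = ξ ⟨U, hU⟩ :=
          congrArg Subtype.val (hjZ ⟨U, hU⟩)
        have h2 : j ⟨U, hU⟩ ≫ sec ε J ≫ Z.1 = sec ε _ ≫ ξ ⟨U, hU⟩ := by
          rw [← h1, ← Category.assoc, ← sec_naturality, Category.assoc]
        have h3 : (sec ε J ≫ Z.1).left ((j ⟨U, hU⟩).left z) =
            (ξ ⟨U, hU⟩).left ((sec ε _).left z) := by
          have := congrArg (fun f => f.left z) h2
          simpa only [Over.comp_left, Scheme.Hom.comp_apply] using this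
        change (sec ε J ≫ Z.1).left ((j ⟨U, hU⟩).left z) ∈ U
        rw [h3]
        exact hξr ⟨U, hU⟩ ⟨_, rfl⟩
    rw [hopen]
    have : IsAffine (C.X ⟨U, hU⟩).left := inferInstanceAs (IsAffine (Spec _))
    exact isAffineOpen_opensRange _

end jets

end Groth.Agent.Sga3.H817.Jets
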